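import Cfsg.Agent.Lib.Small.OrderFilter
import Cfsg.Agent.Lib.Char.RationalSylowBound
import Cfsg.Agent.S0990
import Mathlib.GroupTheory.Perm.Centralizer

/-!
# Tools for excluding orders of simple groups

The options left by the principal block, the members outside the block of a self-centralizing
Sylow subgroup, rationality of an exceptional character off `p`, and the normalizer of a Sylow
subgroup seen in the action on few points.
-/

set_option autoImplicit false
set_option linter.unusedSectionVars false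
set_option linter.style.haveILetI false

namespace Cfsg.Lib.Small.Gap

open Cfsg Cfsg.Lib Cfsg.Lib.Small Cfsg.Lib.Small.OrderFilter

universe u

variable {G : Type u} [Group G] [Finite G] [IsSimpleGroup G]

/-- An admissible option, with the number of Sylow subgroups. -/
theorem option_count [Fintype G] {p : ℕ} [Fact p.Prime] (hG : ¬ IsMulCommutative G) (hodd : p ≠ 2)
    {n : ℕ} (hn : Nat.card G = n) (hn' : n ≤ 6241) (hpn : n % p = 0) (hpm : (n / p) % p ≠ 0)
    (hm1 : n / p ≠ 1) :
    ∃ (P : Sylow p G) (e k : ℕ), Nonempty (Shape P e) ∧ e ∈ List.range p ∧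
      k ∈ List.range (n / p / p + 1) ∧ Nat.card (Sylow p G) = k * p + 1 ∧
      Nat.card (Subgroup.centralizer ((P : Subgroup G) : Set G)) = p * cof n p e k ∧
      optK n p (fun _ => true) e k = true := by
  have hpp : p.Prime := Fact.out
  have hm : Nat.card G = p * (n / p) := by
    rw [Nat.mul_div_cancel' (Nat.dvd_of_mod_eq_zero hpn), hn]
  set m := n / p with hmdef
  have hpm' : ¬ p ∣ m := fun h => hpm (Nat.mod_eq_zero_of_dvd h)
  have hnc := OrderFilter.not_isCyclic hG
  obtain ⟨P, e, c, nS, ⟨S⟩, hC, hnec, -, -, he2, hed, hnS⟩ :=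
    block_setup (G := G) (p := p) hodd hm hpm' hm1
  obtain ⟨k, hk0, hkd, hk, hkF⟩ :=
    exists_index hG (a := 1) (by rw [pow_one]; exact hm) hpm' one_ne_zero
  rw [← hnS] at hk
  subst hk
  have hpos : 0 < (k * p + 1) * e := Nat.mul_pos (Nat.succ_pos _) (by omega)
  have hcof : cof n p e k = c := by
    rw [cof, ← hmdef, ← hnec, Nat.mul_div_cancel_left _ hpos]
  have hkm : k < m / p + 1 := by
    rw [Nat.lt_succ_iff, Nat.le_div_iff_mul_le hpp.pos]
    have := Nat.le_of_dvd (Nat.pos_of_ne_zero fun h0 => hpm (by rw [h0, Nat.zero_mod])) hkd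
    omega
  refine ⟨P, e, k, ⟨S⟩, List.mem_range.2 S.e_lt, List.mem_range.2 hkm, hnS.symm, by rw [hC, hcof], ?_⟩
  simp only [optK, Bool.and_eq_true, decide_eq_true_eq, beq_iff_eq, bne_iff_ne]
  refine ⟨⟨⟨⟨⟨he2, Nat.mod_eq_zero_of_dvd hed⟩, hk0⟩, ?_⟩, hn ▸ hkF⟩, ?_⟩
  · rw [← hmdef, ← hnec]; exact Nat.mod_eq_zero_of_dvd (dvd_mul_right _ _)
  refine blockPoss_sound S hnc hn hm hn' _ (fun _ => rfl) fun χ hχ hne => ?_
  by_cases hc1 : c = 1
  · rw [if_pos (by rw [hcof, hc1])]
    exact two_le_charDegree hnc hne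
  · rw [if_neg (by rw [hcof]; exact hc1)]
    by_contra hlt
    have := S.small hnc (block_setup_c hm hpm') hχ hne (by omega)
    rw [hC] at this
    exact hc1 ((Nat.mul_eq_left hpp.ne_zero).1 this)

omit [IsSimpleGroup G] in
/-- With a self-centralizing Sylow subgroup the members outside the principal block have degree
divisible by `p`. -/
theorem mem_block_or_dvd [Fintype G] {p : ℕ} [Fact p.Prime] {P : Sylow p G} {e : ℕ} (S : Shape P e)
    (hC : Nat.card (Subgroup.centralizer ((P : Subgroup G) : Set G)) = p) {m : ℕ}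
    (hm : Nat.card G = p * m) (hpm : ¬ p ∣ m) (χ : IrrCharacter G) :
    χ ∈ S.X ∨ χ ∈ S.Y ∨ p ∣ charDegree (χ : G → ℂ) := by
  classical
  have hpp : p.Prime := Fact.out
  suffices hcases : χ ∈ principalBlock S.M G ∨ p ∣ charDegree (χ : G → ℂ) by
    rcases hcases with h | h
    · exact ((S.mem_block χ).1 h).imp_right Or.inl
    · exact Or.inr (Or.inr h)
  by_contra hh
  push Not at hh
  obtain ⟨hχ, hdiv⟩ := hh
  have hCP : Subgroup.centralizer ((P : Subgroup G) : Set G) = (P : Subgroup G) :=
    (Subgroup.eq_of_le_of_card_ge (Block.le_centralizer_self S.card_P) (by rw [hC, S.card_P])).symm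
  have hB : IsPBlock S.M (blockOf S.M (χ : G → ℂ)) := Block.isPBlock_blockOf χ
  have hd0 : blockDefect p (blockOf S.M (χ : G → ℂ)) = 0 := by
    by_contra hd
    have h1 := Block.isDefectGroup_of_pos S.hM P S.card_P hB hd
    have h2 := Block.isDefectGroup_principal_sylow S.hM P
    have hsub : Subsingleton {C : ConjClasses (Subgroup.normalizer ((P : Subgroup G) : Set G)) //
        ∀ n : Subgroup.normalizer ((P : Subgroup G) : Set G), ConjClasses.mk n = C →
          ¬ p ∣ orderOf n ∧ (n : G) ∈ Subgroup.centralizer ((P : Subgroup G) : Set G)} := by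
      refine ⟨fun C D => Subtype.ext ?_⟩
      have key : ∀ C : {C : ConjClasses (Subgroup.normalizer ((P : Subgroup G) : Set G)) //
        ∀ n : Subgroup.normalizer ((P : Subgroup G) : Set G), ConjClasses.mk n = C →
          ¬ p ∣ orderOf n ∧ (n : G) ∈ Subgroup.centralizer ((P : Subgroup G) : Set G)},
          C.1 = ConjClasses.mk 1 := by
        rintro ⟨C, hC'⟩
        obtain ⟨n, rfl⟩ := ConjClasses.mk_surjective C
        obtain ⟨h3, h4⟩ := hC' n rfl
        rw [hCP] at h4
        have h5 : orderOf n ∣ p := by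
          rw [← Subgroup.orderOf_coe]
          exact (Subgroup.orderOf_dvd_natCard _ h4).trans S.card_P.dvd
        rcases (Nat.dvd_prime hpp).1 h5 with h6 | h6
        · exact congrArg ConjClasses.mk (orderOf_eq_one_iff.1 h6)
        · exact absurd h6.symm.dvd h3
      rw [key C, key D]
    have hle : Nat.card {B : Set (IrrCharacter G) // IsPBlock S.M B ∧
        IsDefectGroup p S.M B (P : Subgroup G)} ≤ 1 := by
      rw [Cfsg.Agent.S0953.result p S.M S.hM P]
      exact Finite.card_le_one_iff_subsingleton.2 hsub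
    have := Finite.card_le_one_iff_subsingleton.1 hle
    have h3 := congrArg Subtype.val (@Subsingleton.elim _ this
      ⟨_, hB, h1⟩ ⟨_, Block.isPBlock_principal, h2⟩)
    have h3' : blockOf S.M (χ : G → ℂ) = principalBlock S.M G := h3
    exact hχ (h3' ▸ Block.self_mem_blockOf S.hM χ)
  obtain ⟨ψ, hψ, hf⟩ := (Block.blockDefect_eq_zero_iff S.hM hB).1 hd0
  have hψ' : χ = ψ := by
    have := Block.self_mem_blockOf S.hM χ; rw [hψ] at this; exact this
  subst hψ'
  rw [hm, Nat.factorization_mul hpp.ne_zero (fun h0 => hpm (by rw [h0]; exact dvd_zero p)),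
    Finsupp.add_apply, hpp.factorization_self, Nat.factorization_eq_zero_of_not_dvd hpm,
    Nat.factorization_eq_zero_of_not_dvd hdiv] at hf
  omega

/-- An exceptional character whose degree is shared only with the other exceptional ones is
rational on the subgroups of order prime to `p`. -/
theorem sylow_le_degBound [Fintype G] {p : ℕ} [Fact p.Prime] {P : Sylow p G} {e : ℕ} (S : Shape P e)
    (hne : S.θ ≠ one' G)
    (honly : ∀ χ : IrrCharacter G, charDegree (χ : G → ℂ) = charDegree (S.θ : G → ℂ) → χ ∈ S.Y)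
    {q a m : ℕ} [Fact q.Prime] (hqp : q ≠ p) (hn : Nat.card G = q ^ a * m) (hqm : ¬ q ∣ m) :
    a ≤ Char.degBound q (charDegree (S.θ : G → ℂ) + 1) (charDegree (S.θ : G → ℂ)) := by
  classical
  have hqq : q.Prime := Fact.out
  obtain ⟨Q⟩ : Nonempty (Sylow q G) := inferInstance
  have hQ : Nat.card (Q : Subgroup G) = q ^ a := card_sylow a m hn hqm Q
  have hco : Nat.Coprime (q ^ a) m := Nat.Coprime.pow_left _ (hqq.coprime_iff_not_dvd.2 hqm)
  set χ : ↥(Q : Subgroup G) → ℂ := fun g => (S.θ : G → ℂ) g with hχdef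
  have hχ : IsCharacter (Q : Subgroup G) χ := S.θ.2.isCharacter.comp (Q : Subgroup G).subtype
  haveI : Fintype (Q : Subgroup G) := Fintype.ofFinite _
  refine Char.exponent_le_degBound hqq hQ hχ (fun g hg => Subtype.ext ?_) ?_ fun k hk g => ?_
  · exact eq_one_of_apply_eq hne (by simpa [hχdef] using hg)
  · show (S.θ : G → ℂ) ((1 : (Q : Subgroup G)) : G) = _
    rw [OneMemClass.coe_one, Block.apply_one_eq_charDegree]
  · show (S.θ : G → ℂ) ((g ^ k : (Q : Subgroup G)) : G) = (S.θ : G → ℂ) (g : G)
    obtain ⟨k', hk'1, hk'2⟩ := Nat.chineseRemainder hco k 1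
    have hk' : k'.Coprime (Nat.card G) := by
      rw [hn]
      exact Nat.Coprime.mul_right (by rw [Nat.Coprime, hk'1.gcd_eq, ← hQ]; exact hk)
        (by rw [Nat.Coprime, hk'2.gcd_eq, Nat.gcd_one_left])
    have hmem : Char.irrPow hk' S.θ ∈ S.Y := honly _ (by
      refine Block.charDegree_eq_of_apply_one ?_
      rw [Char.irrPow_apply, one_pow, Block.apply_one_eq_charDegree])
    have hreg : ¬ p ∣ orderOf (g : G) := fun hd => by
      have h1 := hd.trans ((Subgroup.orderOf_dvd_natCard _ g.2).trans hQ.dvd)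
      exact hqp ((Nat.prime_dvd_prime_iff_eq Fact.out hqq).1
        ((Fact.out : p.Prime).dvd_of_dvd_pow h1)).symm
    have h := S.agree _ hmem (g : G) hreg
    rw [Char.irrPow_apply] at h
    rw [← h, SubmonoidClass.coe_pow]
    refine congrArg _ (pow_eq_pow_iff_modEq.2 ?_)
    exact (Nat.ModEq.of_dvd (hQ ▸ Subgroup.orderOf_dvd_natCard _ g.2) hk'1).symm

/-- A Sylow normalizer in an action on fewer than `2 p` points. -/
theorem normalizer_dvd {p : ℕ} [Fact p.Prime] (hG : ¬ IsMulCommutative G) (hp2 : p ≠ 2)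
    {H : Subgroup G} (hH : H ≠ ⊤) {d : ℕ} (hd : H.index = d) (hpd : p ≤ d) (hd2 : d < 2 * p)
    (hsq : ¬ p ^ 2 ∣ d.factorial) (P : Subgroup G) (hP : Nat.card P = p) :
    2 * Nat.card (Subgroup.normalizer (P : Set G)) ∣ p * (p - 1) * (d - p).factorial := by
  classical
  subst hd
  have hpp : p.Prime := Fact.out
  set d := H.index
  obtain ⟨f, hf⟩ := Cfsg.Agent.S0991.result hG H hH
  let ψ : G →* Equiv.Perm (Fin d) := (alternatingGroup (Fin d)).subtype.comp f
  have hψ : Function.Injective ψ := (alternatingGroup (Fin d)).subtype_injective.comp hf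
  set P' := P.map ψ with hP'
  have hP'c : Nat.card P' = p := by rw [hP', Subgroup.card_map_of_injective hψ, hP]
  obtain ⟨Q, hQ⟩ := (IsPGroup.of_card (p := p) (n := 1) (by rw [hP'c, pow_one]) : IsPGroup p P').exists_le_sylow
  have hQc : Nat.card (Q : Subgroup (Equiv.Perm (Fin d))) = p := by
    have h1 : p ∣ Nat.card (Q : Subgroup (Equiv.Perm (Fin d))) := (dvd_of_eq hP'c.symm).trans (Subgroup.card_dvd_of_le hQ)
    obtain ⟨k, hk⟩ := IsPGroup.iff_card.1 Q.isPGroup'
    rcases k with _ | _ | k
    · rw [hk, pow_zero] at h1; exact absurd (Nat.dvd_one.1 h1) hpp.ne_one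
    · rw [hk, zero_add, pow_one]
    · exfalso
      apply hsq
      have h2 := (Q : Subgroup (Equiv.Perm (Fin d))).card_subgroup_dvd_card
      rw [Nat.card_perm, Nat.card_fin, hk] at h2
      exact (pow_dvd_pow p (by omega)).trans h2
  have hQP : (Q : Subgroup (Equiv.Perm (Fin d))) = P' :=
    (Subgroup.eq_of_le_of_card_ge hQ (by rw [hQc, hP'c])).symm
  obtain ⟨hQA, h2⟩ := Cfsg.Agent.S0990.result (α := Fin d) (by rw [Fintype.card_fin]; have := hpp.two_le; omega) p hp2 Q
  -- the image of the normalizer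
  have hmap : Nat.card (Subgroup.normalizer (P : Set G)) ∣ Nat.card (Subgroup.normalizer
      ((((Q : Subgroup (Equiv.Perm (Fin d))).subgroupOf (alternatingGroup (Fin d)) :
        Subgroup (alternatingGroup (Fin d))) : Set (alternatingGroup (Fin d))))) := by
    rw [← Subgroup.card_map_of_injective hf]
    refine Subgroup.card_dvd_of_le ?_
    have h3 : P.map f = (Q : Subgroup (Equiv.Perm (Fin d))).subgroupOf (alternatingGroup (Fin d)) := by
      rw [hQP, hP', ← Subgroup.map_map, Subgroup.subgroupOf,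
        Subgroup.comap_map_eq_self_of_injective (alternatingGroup (Fin d)).subtype_injective]
    rw [← h3]
    exact Subgroup.le_normalizer_map f
  -- the normalizer in the symmetric group
  obtain ⟨σ, hσ⟩ := exists_prime_orderOf_dvd_card' (G := (Q : Subgroup (Equiv.Perm (Fin d)))) p (by rw [hQc])
  have hσ' : orderOf (σ : Equiv.Perm (Fin d)) = p := by rw [Subgroup.orderOf_coe, hσ]
  have hz : Subgroup.zpowers (σ : Equiv.Perm (Fin d)) = (Q : Subgroup (Equiv.Perm (Fin d))) :=
    zpowers_eq_of_prime_card hQc σ.2 fun e => hpp.ne_one (by rw [← hσ', e, orderOf_one])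
  obtain ⟨n, hn⟩ := Equiv.Perm.cycleType_prime_order (σ := (σ : Equiv.Perm (Fin d))) (by rw [hσ']; exact hpp)
  have hsum := Equiv.Perm.sum_cycleType (σ : Equiv.Perm (Fin d))
  rw [hn, Multiset.sum_replicate, hσ', smul_eq_mul] at hsum
  have hle := Finset.card_le_univ (σ : Equiv.Perm (Fin d)).support
  rw [Fintype.card_fin, ← hsum] at hle
  have hn0 : n = 0 := by
    by_contra h
    have : 2 * p ≤ (n + 1) * p := Nat.mul_le_mul_right _ (by omega)
    omega
  subst hn0
  have hcent : Nat.card (Subgroup.centralizer ((Q : Subgroup (Equiv.Perm (Fin d))) : Set (Equiv.Perm (Fin d)))) =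
      (d - p).factorial * p := by
    rw [← hz, centralizer_zpowers, Equiv.Perm.nat_card_centralizer, hn, hσ', Fintype.card_fin]
    simp
  have hN := relIndex_centralizer_dvd (Q : Subgroup (Equiv.Perm (Fin d))) hQc
  have hmul := Subgroup.card_mul_index ((Subgroup.centralizer
    ((Q : Subgroup (Equiv.Perm (Fin d))) : Set (Equiv.Perm (Fin d)))).subgroupOf
      (Subgroup.normalizer ((Q : Subgroup (Equiv.Perm (Fin d))) : Set (Equiv.Perm (Fin d)))))
  rw [Nat.card_congr (Subgroup.subgroupOfEquivOfLe (Subgroup.centralizer_le_normalizer _)).toEquiv,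
    hcent] at hmul
  refine (Nat.mul_dvd_mul_left 2 hmap).trans ?_
  rw [h2, ← hmul, show p * (p - 1) * (d - p).factorial = (d - p).factorial * p * (p - 1) by ring]
  exact Nat.mul_dvd_mul_left _ hN

end Cfsg.Lib.Small.Gap
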