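import Cfsg.Agent.Lib.Char.RelDegree
import Cfsg.Agent.Lib.Char.Ito
import Cfsg.Agent.Lib.Char.Galois
import Cfsg.Agent.Lib.Small.BlockShape
import Cfsg.Agent.Lib.Block.CentralDefect
import Cfsg.Prelude.Def_DegreeGraph

/-!
# Tools on character degrees and the degree graph
-/

set_option autoImplicit false
set_option linter.unusedSectionVars false
set_option linter.style.haveILetI false

namespace Cfsg.Lib.Small.Gap

open Cfsg Cfsg.Lib Cfsg.Lib.Small
open scoped ComplexConjugate

universe u v

variable {G : Type u} [Group G] [Fintype G]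

/-- A degree of a normal subgroup divides a degree of the group. -/
theorem exists_dvd_over (N : Subgroup G) [N.Normal] (φ : IrrCharacter N) :
    ∃ η : IrrCharacter G, charDegree (φ : N → ℂ) ∣ charDegree (η : G → ℂ) := by
  classical
  haveI := Fintype.ofFinite N
  obtain ⟨η, hη⟩ := Char.RelDeg.exists_over N φ.2
  obtain ⟨e, -, he, -⟩ := Char.RelDeg.over_data N φ.2 (φ.2.apply_one_eq_charDegree) hη
  exact ⟨η, ⟨e * (Char.inertia N (φ : N → ℂ)).index, by rw [he, mul_comm]⟩⟩

/-- A degree of a quotient is a degree. -/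
theorem mem_charDegrees_of_surjective {H : Type v} [Group H] {f : G →* H} (hf : Function.Surjective f)
    {d : ℕ} (hd : d ∈ charDegrees H) : d ∈ charDegrees G := by
  obtain ⟨χ, rfl⟩ := hd
  refine ⟨⟨_, χ.2.comp_surjective f hf⟩, ?_⟩
  simp [charDegree]

/-- A prime with an abelian normal Sylow subgroup divides no degree. -/
theorem notMem_degreePrimes {p : ℕ} (hp : p.Prime) {N : Subgroup G} (hN : N.Normal)
    (hab : ∀ a ∈ N, ∀ b ∈ N, a * b = b * a) (hidx : ¬ p ∣ N.index) : p ∉ degreePrimes G := by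
  rintro ⟨-, d, ⟨χ, rfl⟩, hpd⟩
  exact hidx (hpd.trans (Char.degree_dvd_index_of_comm N hab χ.2 χ.2.apply_one_eq_charDegree))

/-- The square of a degree is at most the index of a central subgroup. -/
theorem sq_le_central_index (χ : IrrCharacter G) {Z : Subgroup G} (hZ : Z ≤ Subgroup.center G) :
    charDegree (χ : G → ℂ) ^ 2 ≤ Z.index := by
  classical
  haveI := Fintype.ofFinite Z
  have hnorm : ∑ x : G, Complex.normSq ((χ : G → ℂ) x) = (Nat.card G : ℝ) := by
    have h := Char.classInner_irr_self χ.2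
    rw [classInner, inv_mul_eq_one₀ Char.card_cast_ne_zero] at h
    have h' := congrArg Complex.re h.symm
    rw [Complex.re_sum, Complex.natCast_re] at h'
    rw [← h']
    refine Finset.sum_congr rfl fun x _ => ?_
    rw [Complex.mul_conj, Complex.ofReal_re]
  have hz : ∀ z : Z, Complex.normSq ((χ : G → ℂ) (z : G)) = (charDegree (χ : G → ℂ) : ℝ) ^ 2 := by
    intro z
    obtain ⟨c, hc1, hc⟩ := Block.exists_central_scalar χ (hZ z.2)
    have hpow : (χ : G → ℂ) (z : G) = c * (χ : G → ℂ) 1 := by rw [← hc 1, mul_one]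
    have hn : ‖c‖ = 1 := Complex.norm_eq_one_of_pow_eq_one hc1 (orderOf_pos _).ne'
    rw [hpow, Complex.normSq_eq_norm_sq, norm_mul, hn, one_mul, χ.2.apply_one_eq_charDegree,
      Complex.norm_natCast]
  have hle : ∑ x ∈ (Finset.univ : Finset Z).map ⟨Subtype.val, Subtype.val_injective⟩,
      Complex.normSq ((χ : G → ℂ) x) ≤ ∑ x : G, Complex.normSq ((χ : G → ℂ) x) :=
    Finset.sum_le_sum_of_subset_of_nonneg (Finset.subset_univ _) fun x _ _ => Complex.normSq_nonneg _
  rw [Finset.sum_map, hnorm] at hle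
  simp only [Function.Embedding.coeFn_mk] at hle
  rw [Finset.sum_congr rfl (g := fun _ => (charDegree (χ : G → ℂ) : ℝ) ^ 2)
    fun z _ => hz z, Finset.sum_const, Finset.card_univ, nsmul_eq_mul, ← Nat.card_eq_fintype_card,
    ← Z.card_mul_index] at hle
  have h : Nat.card Z * charDegree (χ : G → ℂ) ^ 2 ≤ Nat.card Z * Z.index := by exact_mod_cast hle
  exact Nat.le_of_mul_le_mul_left h Nat.card_pos

/-- A character fixed by a linear character of prime order has degree divisible by that prime. -/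
theorem prime_dvd_of_twist {k : ℕ} (hk : k.Prime) (lam : G →* ℂˣ) {g : G}
    (hg : lam g ≠ 1) (hgk : lam g ^ k = 1) (χ : IrrCharacter G)
    (hfix : ∀ x : G, (lam x : ℂ) * (χ : G → ℂ) x = (χ : G → ℂ) x) :
    k ∣ charDegree (χ : G → ℂ) := by
  classical
  obtain ⟨n, μ, hμ, hval⟩ := Char.exists_sum_roots χ.2.isCharacter g
  set N := orderOf g with hNdef
  set ζ : ℂ := (lam g : ℂ) with hζdef
  have hζN : ζ ^ N = 1 := by
    rw [hζdef, ← Units.val_pow_eq_pow_val, ← map_pow, hNdef, pow_orderOf_eq_one, map_one, Units.val_one]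
  have hμ' : ∀ i, (ζ * μ i) ^ N = 1 := fun i => by rw [mul_pow, hζN, hμ i, one_mul]
  have hsum : ∀ i : ℕ, ∑ j, (ζ * μ j) ^ i = ∑ j, μ j ^ i := by
    intro i
    simp only [mul_pow]
    rw [← Finset.mul_sum, ← hval i]
    have h := hfix (g ^ i)
    rwa [map_pow, Units.val_pow_eq_pow_val] at h
  have hNpos : 0 < N := orderOf_pos g
  have hms : (Finset.univ.val.map fun j => ζ * μ j) = Finset.univ.val.map μ := by
    refine Multiset.ext.2 fun ν => ?_
    by_cases hν : ν ^ N = 1
    · have h1 := sum_pow_inv_mul (fun j => ζ * μ j) hμ' hν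
      have h2 := sum_pow_inv_mul μ hμ hν
      simp only [hsum] at h1
      rw [h2] at h1
      have h3 : (Finset.univ.filter fun j => μ j = ν).card =
          (Finset.univ.filter fun j => ζ * μ j = ν).card := by
        exact_mod_cast mul_left_cancel₀ (Nat.cast_ne_zero.2 hNpos.ne') h1
      rw [Multiset.count_map, Multiset.count_map]
      simp only [eq_comm (a := ν)]
      exact h3.symm
    · rw [Multiset.count_eq_zero.2 (fun h => ?_), Multiset.count_eq_zero.2 (fun h => ?_)]
      · obtain ⟨j, -, hj⟩ := Multiset.mem_map.1 h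
        exact hν (hj ▸ hμ j)
      · obtain ⟨j, -, hj⟩ := Multiset.mem_map.1 h
        exact hν (hj ▸ hμ' j)
  have hprod : ∏ j, (ζ * μ j) = ∏ j, μ j := by
    rw [Finset.prod_eq_multiset_prod, Finset.prod_eq_multiset_prod, hms]
  have hne : ∏ j, μ j ≠ 0 := Finset.prod_ne_zero_iff.2 fun j _ h0 => by
    have := hμ j
    rw [h0, zero_pow hNpos.ne'] at this
    exact zero_ne_one this
  rw [Finset.prod_mul_distrib, Finset.prod_const, Finset.card_univ, Fintype.card_fin] at hprod
  have hn : charDegree (χ : G → ℂ) = n := by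
    have h := hval 0
    simp only [pow_zero, Finset.sum_const, Finset.card_univ, Fintype.card_fin, nsmul_one,
      χ.2.apply_one_eq_charDegree] at h
    exact_mod_cast h
  have hzn : lam g ^ n = 1 := by
    refine Units.ext ?_
    rw [Units.val_pow_eq_pow_val, Units.val_one]
    exact mul_right_cancel₀ hne (by rw [one_mul]; exact hprod)
  haveI := Fact.mk hk
  have ho : orderOf (lam g) = k := orderOf_eq_prime hgk hg
  rw [hn, ← ho]
  exact orderOf_dvd_of_pow_eq_one hzn

/-- A product of characters of two commuting complementary subgroups. -/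
theorem exists_mul_degree {H K : Type v} [Group H] [Fintype H] [Group K] [Fintype K] (e : H × K ≃* G)
    (θ : IrrCharacter H) (ψ : IrrCharacter K) :
    ∃ χ : IrrCharacter G,
      charDegree (χ : G → ℂ) = charDegree (θ : H → ℂ) * charDegree (ψ : K → ℂ) := by
  classical
  set f : G → ℂ := (fun g => (θ : H → ℂ) (e.symm g).1) * fun g => (ψ : K → ℂ) (e.symm g).2 with hf
  have hchar : IsCharacter G f :=
    (θ.2.isCharacter.comp ((MonoidHom.fst H K).comp e.symm.toMonoidHom)).mul
      (ψ.2.isCharacter.comp ((MonoidHom.snd H K).comp e.symm.toMonoidHom))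
  have hirr : IsIrrCharacter G f := by
    refine Char.isIrrCharacter_of_norm_one hchar ?_
    have h1 := Char.classInner_irr_self θ.2
    have h2 := Char.classInner_irr_self ψ.2
    simp only [classInner] at h1 h2 ⊢
    rw [← Equiv.sum_comp e.toEquiv (fun g => f g * conj (f g)), Fintype.sum_prod_type]
    have hfe : ∀ (a : H) (b : K), f (e.toEquiv (a, b)) * conj (f (e.toEquiv (a, b))) =
        ((θ : H → ℂ) a * conj ((θ : H → ℂ) a)) * ((ψ : K → ℂ) b * conj ((ψ : K → ℂ) b)) := by
      intro a b
      simp only [hf, Pi.mul_apply, MulEquiv.toEquiv_eq_coe, MulEquiv.coe_toEquiv,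
        MulEquiv.symm_apply_apply, map_mul]
      ring
    simp only [hfe]
    rw [← Finset.sum_mul_sum, ← Nat.card_congr e.toEquiv, Nat.card_prod]
    push_cast
    rw [mul_inv, mul_mul_mul_comm, h1, h2, one_mul]
  refine ⟨⟨f, hirr⟩, Block.charDegree_eq_of_apply_one (χ := f) ?_⟩
  show f 1 = _
  simp only [hf, Pi.mul_apply, map_one, Prod.fst_one, Prod.snd_one, θ.2.apply_one_eq_charDegree,
    ψ.2.apply_one_eq_charDegree]
  push_cast
  rfl

/-- The sum of the squares of the degrees. -/
theorem sum_sq_charDegree : ∑ χ : IrrCharacter G, charDegree (χ : G → ℂ) ^ 2 = Nat.card G := by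
  have h := Char.sum_sq_degree (G := G)
  simp only [Block.apply_one_eq_charDegree] at h
  exact_mod_cast h

/-- The primes of the degree graph divide the order. -/
theorem dvd_card_of_mem_degreePrimes {p : ℕ} (hp : p ∈ degreePrimes G) : p ∣ Nat.card G := by
  obtain ⟨-, d, ⟨χ, rfl⟩, hpd⟩ := hp
  exact hpd.trans (Char.charDegree_dvd_card χ.2)

/-- Adjacent primes from one degree. -/
theorem adj_of_dvd {p q : ℕ} (hp : p.Prime) (hq : q.Prime) (hne : p ≠ q)
    (h : ∃ χ : IrrCharacter G, p * q ∣ charDegree (χ : G → ℂ)) : (degreeGraph G).Adj p q := by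
  obtain ⟨χ, hχ⟩ := h
  exact ⟨hne, hp, hq, _, ⟨χ, rfl⟩, hχ⟩

end Cfsg.Lib.Small.Gap
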