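import Cfsg.Agent.Lib.Small.Gap.DegreeTools
import Cfsg.Agent.Lib.Core.Basic
import Mathlib.GroupTheory.Sylow
import Mathlib.GroupTheory.Perm.Cycle.Type

/-!
# An element of prime order acting on a normal subgroup of coprime order

Largest normal subgroups of order prime to `r`, the minimal normal subgroup above one, and the
exclusion of a section of order `r` above it when all prime divisors of the order are degree primes.
-/

set_option autoImplicit false
set_option linter.unusedSectionVars false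
set_option linter.style.haveILetI false

namespace Cfsg.Lib.Small.Gap

open Cfsg Cfsg.Lib Cfsg.Lib.Small
open scoped Pointwise

universe u

variable {G : Type u} [Group G]

/-- The largest normal subgroup of order prime to `r`. -/
theorem exists_max_normal_coprime (G : Type u) [Group G] [Finite G] {r : ℕ} (hr : r.Prime) :
    ∃ R : Subgroup G, R.Normal ∧ ¬ r ∣ Nat.card R ∧
      ∀ K : Subgroup G, K.Normal → ¬ r ∣ Nat.card K → K ≤ R := by
  classical
  set s : Set (Subgroup G) := {K | K.Normal ∧ ¬ r ∣ Nat.card K}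
  have hs : (⊥ : Subgroup G) ∈ s := ⟨inferInstance, by
    rw [Subgroup.card_bot]; exact fun h => hr.ne_one (Nat.dvd_one.1 h)⟩
  obtain ⟨R, ⟨hRn, hRc⟩, hmax⟩ := (Set.toFinite s).exists_maximal ⟨_, hs⟩
  refine ⟨R, hRn, hRc, fun K hK hKc => ?_⟩
  haveI := hRn
  haveI := hK
  have hmem : K ⊔ R ∈ s := ⟨Subgroup.sup_normal K R, fun h => by
    rcases hr.dvd_mul.1 (h.trans (Core.card_sup_dvd_mul K R)) with h' | h'
    exacts [hKc h', hRc h']⟩
  exact le_sup_left.trans (hmax hmem le_sup_right)

/-- A minimal normal subgroup of order divisible by an exact prime is simple, if there is no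
non-trivial normal subgroup of order prime to it. -/
theorem exists_simple_normal [Finite G] {r : ℕ} (hr : r.Prime) (hrG : r ∣ Nat.card G)
    (hr2 : ¬ r ^ 2 ∣ Nat.card G)
    (hno : ∀ K : Subgroup G, K.Normal → ¬ r ∣ Nat.card K → K = ⊥) :
    ∃ A : Subgroup G, A.Normal ∧ r ∣ Nat.card A ∧ IsSimpleGroup A := by
  classical
  haveI := Fact.mk hr
  set s : Set (Subgroup G) := {K | K.Normal ∧ K ≠ ⊥}
  have hs : (⊤ : Subgroup G) ∈ s := ⟨inferInstance, fun h => by
    rw [← Subgroup.card_top, h, Subgroup.card_bot] at hrG; exact hr.ne_one (Nat.dvd_one.1 hrG)⟩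
  obtain ⟨A, ⟨hAn, hAne⟩, hmin⟩ := (Set.toFinite s).exists_minimal ⟨_, hs⟩
  haveI := hAn
  have hAr : r ∣ Nat.card A := by
    by_contra h
    exact hAne (hno A hAn h)
  haveI : Nontrivial A := (Subgroup.nontrivial_iff_ne_bot A).2 hAne
  refine ⟨A, hAn, hAr, ⟨fun K hK => ?_⟩⟩
  haveI := hK
  by_cases hKr : r ∣ Nat.card K
  · right
    -- the elements of order dividing `r` of `A` lie in `K`
    have hin : ∀ y : A, y ^ r = 1 → y ∈ K := fun y hy => by
      have h1 : orderOf (QuotientGroup.mk' K y) ∣ r := by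
        refine orderOf_dvd_of_pow_eq_one ?_
        rw [← map_pow, hy, map_one]
      rcases (Nat.dvd_prime hr).1 h1 with h2 | h2
      · exact (QuotientGroup.eq_one_iff y).1 (orderOf_eq_one_iff.1 h2)
      · have h3 : r ∣ Nat.card (A ⧸ K) := h2 ▸ orderOf_dvd_natCard _
        refine absurd (dvd_trans ?_ A.card_subgroup_dvd_card) hr2
        rw [sq, Subgroup.card_eq_card_quotient_mul_card_subgroup K]
        exact mul_dvd_mul h3 hKr
    set L : Subgroup G := Subgroup.normalClosure {x | x ∈ A ∧ x ^ r = 1} with hL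
    have hLA : L ≤ A := Subgroup.normalClosure_le_normal fun x hx => hx.1
    have hLne : L ≠ ⊥ := fun h => by
      obtain ⟨y, hy⟩ := exists_prime_orderOf_dvd_card' r hAr
      have hmem : (y : G) ∈ L := Subgroup.subset_normalClosure
        ⟨y.2, by rw [← SubmonoidClass.coe_pow, ← hy, pow_orderOf_eq_one, OneMemClass.coe_one]⟩
      rw [h, Subgroup.mem_bot, OneMemClass.coe_eq_one] at hmem
      rw [hmem, orderOf_one] at hy
      exact hr.ne_one hy.symm
    have hAL : A ≤ L := hmin ⟨Subgroup.normalClosure_normal, hLne⟩ hLA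
    have hLK : L ≤ K.map A.subtype := by
      rw [hL, Subgroup.normalClosure, Subgroup.closure_le]
      intro z hz
      obtain ⟨x, ⟨hxA, hxr⟩, hconj⟩ := Group.mem_conjugatesOfSet_iff.1 hz
      obtain ⟨c, rfl⟩ := isConj_iff.1 hconj
      have hzA : c * x * c⁻¹ ∈ A := hAn.conj_mem x hxA c
      exact ⟨⟨_, hzA⟩, hin _ (Subtype.ext (by
        rw [SubmonoidClass.coe_pow, OneMemClass.coe_one, conj_pow, hxr, mul_one, mul_inv_cancel])),
        rfl⟩
    rw [eq_top_iff]
    intro y _
    obtain ⟨z, hz, hzy⟩ := hLK (hAL y.2)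
    rwa [Subtype.ext hzy] at hz
  · left
    obtain ⟨M, hMn, hMc, hMmax⟩ := exists_max_normal_coprime A hr
    haveI := hMn
    have hMG : (M.map A.subtype).Normal := by
      refine ⟨?_⟩
      rintro _ ⟨x, hx, rfl⟩ c
      set φ : A ≃* A := MulAut.conjNormal c
      have hle : M.map φ.toMonoidHom ≤ M := hMmax _ (hMn.map _ φ.surjective) (by
        rwa [Subgroup.card_map_of_injective (f := φ.toMonoidHom) φ.injective])
      exact ⟨φ x, hle ⟨x, hx, rfl⟩, MulAut.conjNormal_apply c x⟩
    have hMbot := hno _ hMG (by rwa [Core.card_map_subtype])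
    rw [eq_bot_iff]
    refine (hMmax K hK hKr).trans ?_
    rw [(Subgroup.map_eq_bot_iff_of_injective M A.subtype_injective).1 hMbot]

theorem mem_normalizer_iff_conj_smul {H : Subgroup G} {g : G} :
    g ∈ Subgroup.normalizer (H : Set G) ↔ MulAut.conj g • H = H := by
  rw [Subgroup.mem_normalizer_iff, SetLike.ext_iff]
  constructor
  · intro h y
    rw [Subgroup.mem_pointwise_smul_iff_inv_smul_mem, ← map_inv, MulAut.smul_def, MulAut.conj_apply, h]
    simp [mul_assoc]
  · intro h y
    rw [← h (g * y * g⁻¹), Subgroup.mem_pointwise_smul_iff_inv_smul_mem, ← map_inv, MulAut.smul_def,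
      MulAut.conj_apply]
    simp [mul_assoc]

theorem card_conj_smul (x : G) (L : Subgroup G) :
    Nat.card (MulAut.conj x • L : Subgroup G) = Nat.card L :=
  (Nat.card_congr (Subgroup.equivSMul (MulAut.conj x) L).toEquiv).symm

variable [Finite G]

/-- An element of prime order normalizing a subgroup: the fixed points are congruent to the order. -/
theorem card_fixed_modEq {g : G} {r : ℕ} [Fact r.Prime] (hg : g ^ r = 1) {L : Subgroup G}
    (hgL : g ∈ Subgroup.normalizer (L : Set G)) :
    Nat.card (L ⊓ Subgroup.centralizer {g} : Subgroup G) ≡ Nat.card L [MOD r] := by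
  classical
  haveI := Fintype.ofFinite L
  set gN : Subgroup.normalizer (L : Set G) := ⟨g, hgL⟩
  set σ : Equiv.Perm L := MulAut.toPerm L (L.normalizerMonoidHom gN) with hσdef
  have hσ : σ ^ r ^ 1 = 1 := by
    rw [hσdef, pow_one, ← map_pow, ← map_pow, show gN ^ r = 1 from Subtype.ext hg, map_one, map_one]
  have h := Equiv.Perm.card_compl_support_modEq hσ
  rw [← Nat.card_eq_fintype_card] at h
  refine Eq.trans ?_ h
  congr 1
  have hmem : ∀ y : L, y ∈ σ.supportᶜ ↔ g * (y : G) * g⁻¹ = y := fun y => by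
    rw [Finset.mem_compl, Equiv.Perm.notMem_support]
    exact Subtype.ext_iff
  rw [← Nat.card_eq_finsetCard]
  refine Nat.card_congr ⟨fun y => ⟨⟨y.1, y.2.1⟩, (hmem _).2 ?_⟩,
    fun y => ⟨y.1.1, y.1.2, ?_⟩, fun _ => rfl, fun _ => rfl⟩
  · have h := Subgroup.mem_centralizer_iff.1 y.2.2 g (Set.mem_singleton g)
    show g * (y : G) * g⁻¹ = y
    rw [h, mul_inv_cancel_right]
  · refine Subgroup.mem_centralizer_iff.2 ?_
    rintro _ rfl
    exact mul_inv_eq_iff_eq_mul.1 ((hmem _).1 y.2)

/-- Every Sylow subgroup of a normal subgroup of order prime to `r` has a conjugate normalized by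
a given element generating a Sylow `r`-subgroup. -/
theorem exists_invariant_sylow {r : ℕ} [Fact r.Prime] {g : G} (hg : orderOf g = r)
    (hr2 : ¬ r ^ 2 ∣ Nat.card G) {R : Subgroup G} [R.Normal] (hrR : ¬ r ∣ Nat.card R)
    {q : ℕ} [Fact q.Prime] :
    ∃ L : Subgroup G, L ≤ R ∧ Nat.card L = q ^ (Nat.card R).factorization q ∧
      g ∈ Subgroup.normalizer (L : Set G) := by
  classical
  have hr : r.Prime := Fact.out
  obtain ⟨Q⟩ : Nonempty (Sylow q R) := inferInstance
  set L₀ := (Q : Subgroup R).map R.subtype with hL₀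
  have hsup := Sylow.normalizer_sup_eq_top Q
  set N := Subgroup.normalizer (L₀ : Set G) with hN
  have hidx : N.index ∣ Nat.card R := by
    have h1 : R.relIndex (N ⊔ R) = R.relIndex N := Subgroup.relIndex_sup_right _ _
    rw [hsup, Subgroup.relIndex_top_right] at h1
    have h2 := N.card_mul_index
    have h3 := Core.card_mul_relIndex (H := N ⊓ R) (K := N) inf_le_left
    rw [Subgroup.inf_relIndex_left, ← h1] at h3
    have h4 := R.card_mul_index
    have h5 : Nat.card (N ⊓ R : Subgroup G) * N.index = Nat.card R := by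
      have h6 : Nat.card (N ⊓ R : Subgroup G) * N.index * R.index = Nat.card R * R.index := by
        rw [h4, ← h2, ← h3]; ring
      exact Nat.eq_of_mul_eq_mul_right (Nat.pos_of_ne_zero Subgroup.index_ne_zero_of_finite) h6
    exact Dvd.intro_left _ h5
  have hrN : r ∣ Nat.card N := by
    have h : r ∣ Nat.card N * N.index := by
      rw [N.card_mul_index, ← hg]; exact orderOf_dvd_natCard g
    rcases hr.dvd_mul.1 h with h' | h'
    · exact h'
    · exact absurd (h'.trans hidx) hrR
  obtain ⟨g', hg'⟩ := exists_prime_orderOf_dvd_card' r hrN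
  have hc : ∀ y : G, orderOf y = r → Nat.card (Subgroup.zpowers y) = r ^ (Nat.card G).factorization r :=
    fun y hy => by
      rw [Nat.card_zpowers, hy]
      have hfac : (Nat.card G).factorization r = 1 := by
        refine le_antisymm (Nat.lt_succ_iff.1 ?_)
          (hr.factorization_pos_of_dvd Nat.card_pos.ne' (hy ▸ orderOf_dvd_natCard y))
        by_contra hlt
        exact hr2 ((pow_dvd_pow r (by omega)).trans (Nat.ordProj_dvd _ r))
      rw [hfac, pow_one]
  have hg'' : orderOf (g' : G) = r := by rw [Subgroup.orderOf_coe, hg']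
  obtain ⟨x, hx⟩ := MulAction.exists_smul_eq G (Sylow.ofCard _ (hc _ hg''))
    (Sylow.ofCard _ (hc g hg))
  have hgx : g ∈ MulAut.conj x • Subgroup.zpowers (g' : G) := by
    have h : MulAut.conj x • Subgroup.zpowers (g' : G) = Subgroup.zpowers g := by
      have := congrArg Sylow.toSubgroup hx
      rw [Sylow.coe_subgroup_smul] at this
      exact this
    rw [h]; exact Subgroup.mem_zpowers g
  have hconj : MulAut.conj x • L₀ ≤ R := by
    rintro _ ⟨y, hy, rfl⟩
    obtain ⟨z, -, rfl⟩ := hy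
    exact Subgroup.Normal.conj_mem inferInstance _ z.2 x
  refine ⟨MulAut.conj x • L₀, hconj, ?_, ?_⟩
  · rw [card_conj_smul, hL₀, Core.card_map_subtype, Q.card_eq_multiplicity]
  · obtain ⟨y, hy, hyg⟩ := hgx
    have hy' := mem_normalizer_iff_conj_smul.1 ((Subgroup.zpowers_le).2 g'.2 hy)
    refine mem_normalizer_iff_conj_smul.2 ?_
    have hge : g = x * y * x⁻¹ := hyg.symm
    rw [← mul_smul, ← map_mul, show g * x = x * y by rw [hge]; group, map_mul, mul_smul, hy']

/-- No section of order `r` lies above the largest normal subgroup of order prime to `r`, when all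
prime divisors of the order divide degrees. -/
theorem no_section_of_prime_order [Fintype G] {n r : ℕ} (hr : r.Prime) (hn : Nat.card G = n)
    (hr2 : ¬ r ^ 2 ∣ n) (hsmall : n / r < 1024) {R N : Subgroup G} [R.Normal] [N.Normal]
    (hRN : R ≤ N) (hrR : ¬ r ∣ Nat.card R) (hNc : Nat.card N = r * Nat.card R)
    (hprimes : ∀ p : ℕ, p.Prime → p ∣ n → p ∈ degreePrimes G)
    (q₀ e : ℕ) (he : ¬ q₀ ^ (e + 1) ∣ n)
    (hj : ∀ j < e, 0 < j → q₀ ^ e % r ≠ q₀ ^ j % r ∧ q₀ ^ j % r ≠ 1)
    (hcond : ∀ q ∈ (n / r).primeFactors, ∀ a ∈ List.range 10, q ^ a ∣ n / r →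
      (∀ j < a, q ^ a % r ≠ q ^ j % r) ∨ (q = q₀ ∧ a = e)) : False := by
  classical
  subst hn
  haveI := Fact.mk hr
  have hrG : r ∣ Nat.card G := ((dvd_mul_right r _).trans hNc.symm.dvd).trans N.card_subgroup_dvd_card
  obtain ⟨g₀, hg₀⟩ := exists_prime_orderOf_dvd_card' r ((dvd_mul_right r _).trans hNc.symm.dvd : r ∣ Nat.card N)
  set g : G := (g₀ : G) with hgdef
  have hg : orderOf g = r := by rw [hgdef, Subgroup.orderOf_coe, hg₀]
  have hgr : g ^ r = 1 := by rw [← hg, pow_orderOf_eq_one]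
  have hgN : g ∈ N := g₀.2
  have hR_dvd : Nat.card R ∣ Nat.card G / r := by
    obtain ⟨c, hc⟩ := N.card_subgroup_dvd_card
    refine ⟨c, ?_⟩
    rw [hc, hNc, mul_assoc, Nat.mul_div_cancel_left _ hr.pos]
  have hm0 : Nat.card G / r ≠ 0 := fun h => by
    rw [h] at hR_dvd
    exact absurd (Nat.div_eq_zero_iff.1 h) (by
      rintro (h' | h')
      · exact hr.ne_zero h'
      · exact absurd (Nat.le_of_dvd Nat.card_pos hrG) (by omega))
  set C := R ⊓ Subgroup.centralizer {g} with hC
  -- the fixed points of an invariant Sylow subgroup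
  have hfix : ∀ {q : ℕ}, q.Prime → ∀ {L : Subgroup G}, ∀ {a : ℕ}, Nat.card L = q ^ a →
      g ∈ Subgroup.normalizer (L : Set G) →
      ∃ j ≤ a, Nat.card (L ⊓ Subgroup.centralizer {g} : Subgroup G) = q ^ j ∧ q ^ j % r = q ^ a % r := by
    intro q hq L a hL hgL
    have h1 := Subgroup.card_dvd_of_le (inf_le_left : L ⊓ Subgroup.centralizer {g} ≤ L)
    rw [hL] at h1
    obtain ⟨j, hj, hj'⟩ := (Nat.dvd_prime_pow hq).1 h1
    exact ⟨j, hj, hj', by have := card_fixed_modEq hgr hgL; rwa [hj', hL] at this⟩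
  have hqa : ∀ {q : ℕ}, q.Prime → q ∣ Nat.card R →
      (∀ j < (Nat.card R).factorization q,
        q ^ (Nat.card R).factorization q % r ≠ q ^ j % r) ∨
      (q = q₀ ∧ (Nat.card R).factorization q = e) := by
    intro q hq hqR
    refine hcond q (Nat.mem_primeFactors.2 ⟨hq, hqR.trans hR_dvd, hm0⟩) _ (List.mem_range.2 ?_)
      ((Nat.ordProj_dvd _ q).trans hR_dvd)
    by_contra hlt
    push Not at hlt
    have h1 := Nat.le_of_dvd (Nat.pos_of_ne_zero hm0) ((pow_dvd_pow q hlt).trans
      ((Nat.ordProj_dvd _ q).trans hR_dvd))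
    have h2 : 2 ^ 10 ≤ q ^ 10 := Nat.pow_le_pow_left hq.two_le 10
    omega
  have hpart : ∀ {q : ℕ}, q.Prime →
      (∀ j < (Nat.card R).factorization q, q ^ (Nat.card R).factorization q % r ≠ q ^ j % r) →
      q ^ (Nat.card R).factorization q ∣ Nat.card C := by
    intro q hq h
    haveI := Fact.mk hq
    obtain ⟨L, hLR, hLc, hgL⟩ := exists_invariant_sylow (q := q) hg hr2 hrR
    obtain ⟨j, hja, hjc, hjm⟩ := hfix hq hLc hgL
    have hje : j = (Nat.card R).factorization q := hja.eq_or_lt.resolve_right fun hlt =>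
      h j hlt hjm.symm
    rw [← hje, ← hjc]
    exact Subgroup.card_dvd_of_le (inf_le_inf_right _ hLR)
  have hCne : C ≠ R := fun hCR => by
    -- then the group generated by the element is normal
    have hcomm : ∀ ρ ∈ R, g * ρ = ρ * g := fun ρ hρ => by
      rw [← hCR] at hρ
      exact Subgroup.mem_centralizer_iff.1 hρ.2 g (Set.mem_singleton g)
    have hsupeq : Subgroup.zpowers g ⊔ R = N := by
      refine Subgroup.eq_of_le_of_card_ge (sup_le (Subgroup.zpowers_le.2 hgN) hRN) ?_
      rw [hNc]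
      refine Nat.le_of_dvd Nat.card_pos (Nat.Coprime.mul_dvd_of_dvd_of_dvd
        (hr.coprime_iff_not_dvd.2 hrR) ?_ (Subgroup.card_dvd_of_le le_sup_right))
      rw [← hg, ← Nat.card_zpowers]
      exact Subgroup.card_dvd_of_le le_sup_left
    have hnorm : (Subgroup.zpowers g).Normal := by
      refine ⟨fun y hy x => ?_⟩
      obtain ⟨k, rfl⟩ := Subgroup.mem_zpowers_iff.1 hy
      have hin : x * g * x⁻¹ ∈ Subgroup.zpowers g := by
        have h1 : x * g * x⁻¹ ∈ Subgroup.zpowers g ⊔ R := by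
          rw [hsupeq]; exact Subgroup.Normal.conj_mem inferInstance g hgN x
        obtain ⟨a, ha, ρ, hρ, hmul⟩ := Subgroup.mem_sup_of_normal_right.1 h1
        obtain ⟨i, rfl⟩ := Subgroup.mem_zpowers_iff.1 ha
        have hcm : Commute (g ^ i) ρ := Commute.zpow_left (hcomm ρ hρ) i
        have hpow : (g ^ i) ^ r * ρ ^ r = 1 := by
          rw [← hcm.mul_pow, hmul, conj_pow, hgr, mul_one, mul_inv_cancel]
        rw [← zpow_natCast (g ^ i), ← zpow_mul, mul_comm i, zpow_mul, zpow_natCast, hgr, one_zpow,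
          one_mul] at hpow
        have hρ1 : ρ = 1 := by
          have h2 : orderOf ρ ∣ Nat.gcd r (Nat.card R) :=
            Nat.dvd_gcd (orderOf_dvd_of_pow_eq_one hpow) (Subgroup.orderOf_dvd_natCard R hρ)
          rw [hr.coprime_iff_not_dvd.2 hrR, Nat.dvd_one, orderOf_eq_one_iff] at h2
          exact h2
        rw [← hmul, hρ1, mul_one]
        exact ha
      rw [← conj_zpow]
      exact Subgroup.zpow_mem _ hin k
    refine notMem_degreePrimes hr hnorm (fun a ha b hb => ?_) ?_ (hprimes r hr hrG)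
    · obtain ⟨i, rfl⟩ := Subgroup.mem_zpowers_iff.1 ha
      obtain ⟨j, rfl⟩ := Subgroup.mem_zpowers_iff.1 hb
      rw [← zpow_add, add_comm, zpow_add]
    · intro hd
      refine hr2 ?_
      rw [sq, ← (Subgroup.zpowers g).card_mul_index, Nat.card_zpowers, hg]
      exact Nat.mul_dvd_mul_left r hd
  -- some prime part is not centralized
  have hex : ∃ q : ℕ, q.Prime ∧ q ∣ Nat.card R ∧
      ¬ q ^ (Nat.card R).factorization q ∣ Nat.card C := by
    by_contra hno
    push Not at hno
    refine hCne (Subgroup.eq_of_le_of_card_ge inf_le_left (Nat.le_of_dvd Nat.card_pos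
      ((Nat.factorization_prime_le_iff_dvd Nat.card_pos.ne' Nat.card_pos.ne').1 fun p hp => ?_)))
    by_cases hpR : p ∣ Nat.card R
    · exact (hp.pow_dvd_iff_le_factorization Nat.card_pos.ne').1 (hno p hp hpR)
    · rw [Nat.factorization_eq_zero_of_not_dvd hpR]; exact Nat.zero_le _
  obtain ⟨q, hq, hqR, hqC⟩ := hex
  obtain ⟨hq0, hqe⟩ := (hqa hq hqR).resolve_left fun h => hqC (hpart hq h)
  subst hq0
  haveI := Fact.mk hq
  obtain ⟨L, hLR, hLc, hgL⟩ := exists_invariant_sylow (q := q) hg hr2 hrR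
  rw [hqe] at hLc
  have hLC : L ⊓ Subgroup.centralizer {g} = ⊥ := by
    obtain ⟨j, hja, hjc, hjm⟩ := hfix hq hLc hgL
    refine Subgroup.eq_bot_of_card_eq _ ?_
    rw [hjc]
    rcases Nat.eq_zero_or_pos j with h0 | h0
    · rw [h0, pow_zero]
    rcases hja.eq_or_lt with hlt | hlt
    · exfalso
      refine hqC ?_
      rw [hqe, ← hlt, ← hjc]
      exact Subgroup.card_dvd_of_le (inf_le_inf_right _ hLR)
    · exact absurd hjm.symm (hj j hlt h0).1
  have hCL : ∀ c ∈ C, c ∈ L → c = 1 := fun c hc hcL => by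
    have : c ∈ L ⊓ Subgroup.centralizer {g} := ⟨hcL, hc.2⟩
    rwa [hLC, Subgroup.mem_bot] at this
  -- the centralizer has the order of the other primes
  have hinj : Function.Injective (fun p : C × L => (⟨(p.1 : G) * p.2,
      mul_mem p.1.2.1 (hLR p.2.2)⟩ : R)) := by
    rintro ⟨c, l⟩ ⟨c', l'⟩ h
    have h' : (c : G) * l = c' * l' := congrArg Subtype.val h
    have h1 : (c' : G)⁻¹ * c = l' * (l : G)⁻¹ := by
      rw [eq_mul_inv_iff_mul_eq, mul_assoc, h', inv_mul_cancel_left]
    have h2 := hCL _ (mul_mem (inv_mem c'.2) c.2) (h1 ▸ mul_mem l'.2 (inv_mem l.2))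
    have hc : c = c' := Subtype.ext (eq_of_inv_mul_eq_one h2).symm
    subst hc
    exact Prod.ext rfl (Subtype.ext (mul_left_cancel h'))
  have hle := Nat.card_le_card_of_injective _ hinj
  rw [Nat.card_prod] at hle
  have hm : Nat.card R ∣ Nat.card C * Nat.card L := by
    refine (Nat.factorization_prime_le_iff_dvd Nat.card_pos.ne'
      (Nat.mul_ne_zero Nat.card_pos.ne' Nat.card_pos.ne')).1 fun p hp => ?_
    refine (hp.pow_dvd_iff_le_factorization (Nat.mul_ne_zero Nat.card_pos.ne' Nat.card_pos.ne')).1 ?_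
    by_cases hpR : p ∣ Nat.card R
    · rcases hqa hp hpR with h | ⟨rfl, h⟩
      · exact (hpart hp h).trans (dvd_mul_right _ _)
      · rw [h, ← hLc]; exact dvd_mul_left _ _
    · rw [Nat.factorization_eq_zero_of_not_dvd hpR, pow_zero]; exact one_dvd _
  have hsurj := ((Nat.bijective_iff_injective_and_card _).2 ⟨hinj, by
    rw [Nat.card_prod]
    exact le_antisymm hle (Nat.le_of_dvd (Nat.mul_pos Nat.card_pos Nat.card_pos) hm)⟩).2
  -- the Sylow subgroup is normal in `R`
  have hLq : IsPGroup q L := IsPGroup.of_card hLc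
  have hbig : ∀ L' : Subgroup G, L' ≤ R → Nat.card L' = q ^ e →
      L ≤ Subgroup.normalizer (L' : Set G) → L' = L := by
    intro L' hL' hc hn
    obtain ⟨k, hk⟩ := IsPGroup.iff_card.1
      (hLq.to_sup_of_normal_right' (IsPGroup.of_card hc : IsPGroup q L') hn)
    have hke : k ≤ e := by
      have h1 := Subgroup.card_dvd_of_le (sup_le hLR hL' : L ⊔ L' ≤ R)
      rw [hk, hq.pow_dvd_iff_le_factorization Nat.card_pos.ne', hqe] at h1
      exact h1
    have hsz : Nat.card (L ⊔ L' : Subgroup G) ≤ q ^ e := by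
      rw [hk]; exact Nat.pow_le_pow_right hq.pos hke
    rw [Subgroup.eq_of_le_of_card_ge (le_sup_right : L' ≤ L ⊔ L') (by rw [hc]; exact hsz),
      ← Subgroup.eq_of_le_of_card_ge (le_sup_left : L ≤ L ⊔ L') (by rw [hLc]; exact hsz)]
  have hgconj : ∀ y ∈ L, g * y * g⁻¹ ∈ L := fun y hy => (Subgroup.mem_normalizer_iff.1 hgL y).1 hy
  -- the commutators with the element fill the subgroup
  have hfull : Function.Surjective (fun a : L => (⟨(a : G)⁻¹ * (g * a * g⁻¹),
      mul_mem (inv_mem a.2) (hgconj _ a.2)⟩ : L)) := by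
    refine Finite.surjective_of_injective fun a b h => ?_
    have h' : (a : G)⁻¹ * (g * a * g⁻¹) = (b : G)⁻¹ * (g * b * g⁻¹) := congrArg Subtype.val h
    have h1 : g * ((b : G) * (a : G)⁻¹) * g⁻¹ = (b : G) * (a : G)⁻¹ := by
      calc g * ((b : G) * (a : G)⁻¹) * g⁻¹ = (g * b * g⁻¹) * (g * a * g⁻¹)⁻¹ := by group
        _ = (b : G) * ((b : G)⁻¹ * (g * b * g⁻¹)) * (g * a * g⁻¹)⁻¹ := by group
        _ = (b : G) * ((a : G)⁻¹ * (g * a * g⁻¹)) * (g * a * g⁻¹)⁻¹ := by rw [h']
        _ = _ := by group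
    have h2 : (b : G) * (a : G)⁻¹ ∈ L ⊓ Subgroup.centralizer {g} := by
      refine ⟨L.mul_mem b.2 (L.inv_mem a.2), Subgroup.mem_centralizer_iff.2 ?_⟩
      rintro _ rfl
      exact mul_inv_eq_iff_eq_mul.1 h1
    rw [hLC, Subgroup.mem_bot] at h2
    exact Subtype.ext (mul_inv_eq_one.1 h2).symm
  have hnR : ∀ ρ ∈ R, MulAut.conj ρ • L = L := by
    intro ρ hρ
    obtain ⟨⟨c, l⟩, hcl⟩ := hsurj ⟨ρ, hρ⟩
    have hρe : (c : G) * l = ρ := congrArg Subtype.val hcl
    have hcl' : MulAut.conj ρ • L = MulAut.conj (c : G) • L := by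
      rw [← hρe, map_mul, mul_smul, Subgroup.conj_smul_eq_self_of_mem l.2]
    rw [hcl']
    refine hbig _ ?_ ?_ ?_
    · rintro _ ⟨y, hy, rfl⟩
      exact Subgroup.Normal.conj_mem inferInstance y (hLR hy) c
    · rw [card_conj_smul, hLc]
    · intro y hy
      obtain ⟨a, ha⟩ := hfull ⟨y, hy⟩
      have hy' : y = (a : G)⁻¹ * (g * a * g⁻¹) := (congrArg Subtype.val ha).symm
      set L' := MulAut.conj (c : G) • L with hL'
      have hgL' : g ∈ Subgroup.normalizer (L' : Set G) := by
        refine mem_normalizer_iff_conj_smul.2 ?_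
        have h3 := Subgroup.mem_centralizer_iff.1 c.2.2 g (Set.mem_singleton g)
        rw [hL', ← mul_smul, ← map_mul, h3, map_mul, mul_smul, mem_normalizer_iff_conj_smul.1 hgL]
      -- the element fixes every conjugate, so commutes with the action of `L` on them
      obtain ⟨⟨c', l'⟩, hc'l'⟩ := hsurj ⟨(a : G) * c, mul_mem (hLR a.2) c.2.1⟩
      have he' : (c' : G) * l' = a * c := congrArg Subtype.val hc'l'
      have haL' : MulAut.conj (a : G) • L' = MulAut.conj (c' : G) • L := by
        rw [hL', ← mul_smul, ← map_mul, ← he', map_mul, mul_smul,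
          Subgroup.conj_smul_eq_self_of_mem l'.2]
      have hfixL : ∀ d : C, MulAut.conj g • (MulAut.conj (d : G) • L) = MulAut.conj (d : G) • L := by
        intro d
        have h3 := Subgroup.mem_centralizer_iff.1 d.2.2 g (Set.mem_singleton g)
        rw [← mul_smul, ← map_mul, h3, map_mul, mul_smul,
          mem_normalizer_iff_conj_smul.1 hgL]
      refine mem_normalizer_iff_conj_smul.2 ?_
      have hginv : MulAut.conj g⁻¹ • L' = L' :=
        mem_normalizer_iff_conj_smul.1 (inv_mem hgL')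
      rw [hy', map_mul, map_mul, map_mul, mul_smul, mul_smul, mul_smul, hginv, haL', hfixL c',
        ← haL', ← mul_smul, ← map_mul, inv_mul_cancel, map_one, one_smul]
  have hnG : L.Normal := by
    refine ⟨fun y hy x => ?_⟩
    have hxL : MulAut.conj x • L ≤ R := by
      rintro _ ⟨z, hz, rfl⟩
      exact Subgroup.Normal.conj_mem inferInstance z (hLR hz) x
    have h := hbig (MulAut.conj x • L) hxL
      (by rw [card_conj_smul, hLc])
      (fun z hz => by
        refine mem_normalizer_iff_conj_smul.2 ?_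
        have h4 : x⁻¹ * z * x ∈ R := by
          have := Subgroup.Normal.conj_mem (H := R) inferInstance z (hLR hz) x⁻¹
          rwa [inv_inv] at this
        rw [← mul_smul, ← map_mul, show z * x = x * (x⁻¹ * z * x) by group, map_mul, mul_smul,
          hnR _ h4])
    rw [← h]
    exact ⟨y, hy, rfl⟩
  -- it is abelian
  have hepos : 0 < e := by
    rw [← hqe]; exact hq.factorization_pos_of_dvd Nat.card_pos.ne' hqR
  have hab : ∀ a ∈ L, ∀ b ∈ L, a * b = b * a := by
    haveI := hnG
    set Z := L ⊓ Subgroup.centralizer (L : Set G) with hZ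
    haveI : Z.Normal := inferInstance
    have hgZ : g ∈ Subgroup.normalizer (Z : Set G) := by
      rw [Subgroup.normalizer_eq_top]; exact Subgroup.mem_top g
    have hZd := Subgroup.card_dvd_of_le (inf_le_left : Z ≤ L)
    rw [hLc] at hZd
    obtain ⟨i, hie, hi⟩ := (Nat.dvd_prime_pow hq).1 hZd
    obtain ⟨j, hji, hjc, hjm⟩ := hfix hq hi hgZ
    have hj0 : j = 0 := by
      have h := Subgroup.card_dvd_of_le (inf_le_inf_right (Subgroup.centralizer {g}) (inf_le_left : Z ≤ L))
      rw [hLC, Subgroup.card_bot, hjc, Nat.dvd_one, pow_eq_one_iff] at h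
      rcases h with h | h
      · exact absurd h hq.ne_one
      · exact h
    haveI : Nontrivial L := by
      rw [← Finite.one_lt_card_iff_nontrivial, hLc]
      exact Nat.one_lt_pow hepos.ne' hq.one_lt
    have hi0 : i ≠ 0 := fun h0 => by
      haveI := hLq.center_nontrivial
      obtain ⟨⟨z, hz⟩, hz1⟩ := exists_ne (1 : Subgroup.center L)
      have hzZ : (z : G) ∈ Z := ⟨z.2, Subgroup.mem_centralizer_iff.2 fun l hl =>
        congrArg Subtype.val (Subgroup.mem_center_iff.1 hz ⟨l, hl⟩)⟩
      rw [Subgroup.eq_bot_of_card_eq Z (by rw [hi, h0, pow_zero]), Subgroup.mem_bot] at hzZ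
      exact hz1 (Subtype.ext (Subtype.ext hzZ))
    have hie' : i = e := hie.eq_or_lt.resolve_right fun hlt =>
      (hj i hlt (Nat.pos_of_ne_zero hi0)).2 (by
        rw [← hjm, hj0, pow_zero, Nat.one_mod_eq_one.2 hr.ne_one])
    have hZL : Z = L := Subgroup.eq_of_le_of_card_ge inf_le_left (by rw [hi, hie', hLc])
    intro a ha b hb
    rw [← hZL] at hb
    exact Subgroup.mem_centralizer_iff.1 hb.2 a ha
  refine notMem_degreePrimes hq hnG hab ?_ (hprimes q hq (hqR.trans R.card_subgroup_dvd_card))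
  intro hd
  refine he ?_
  rw [pow_succ, ← hLc, ← L.card_mul_index]
  exact Nat.mul_dvd_mul_left _ hd

end Cfsg.Lib.Small.Gap
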