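import Cfsg.Agent.Lib.Small.Gap.Witness
import Cfsg.Agent.Lib.Small.Gap.DegreeTools
import Cfsg.Agent.Lib.Small.LThreeThreeOrder
import Cfsg.Agent.Lib.TwoDim.DegreeSets
import Cfsg.Agent.Lib.Dickson.Maximal.Basic
import Cfsg.Agent.Lib.Linear.PSLSmall
import Cfsg.Agent.S0494
import Cfsg.Agent.S0495
import Cfsg.Agent.S0496
import Cfsg.Agent.S0497
import Cfsg.Agent.S0498
import Cfsg.Agent.S0981
import Cfsg.Agent.S0983
import Cfsg.Agent.S0984
import Cfsg.Agent.S1011
import Cfsg.Agent.S1020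
import Cfsg.Agent.S1021

/-!
# The non-abelian simple groups of order less than 6000: uniqueness and degrees
-/

set_option autoImplicit false
set_option linter.unusedSectionVars false
set_option linter.style.haveILetI false

namespace Cfsg.Lib.Small.Gap

open Cfsg Cfsg.Lib Cfsg.Lib.Small

universe u v

/-- The orders of non-abelian simple groups below 6000. -/
def orders : List ℕ := [60, 168, 360, 504, 660, 1092, 2448, 2520, 3420, 4080, 5616]

variable {S : Type u} [Group S] [Finite S] [IsSimpleGroup S]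

theorem mem_orders (hS : ¬ IsMulCommutative S) (hlt : Nat.card S < 6000) : Nat.card S ∈ orders := by
  simp only [orders, List.mem_cons, List.not_mem_nil, or_false]
  by_cases h1 : Nat.card S ≤ 1092
  · rcases Cfsg.Agent.S0496.result hS h1 with h | h | h | h | h | h <;> omega
  by_cases h2 : Nat.card S ≤ 3640
  · rcases gap_orders hS (by omega) h2 with h | h | h <;> omega
  rcases Cfsg.Agent.S0983.result hS (by omega) (by omega) with h | h | h | h <;> omega

/-- Two simple groups of one of these orders are isomorphic. -/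
theorem iso_of_card {T : Type v} [Group T] [Finite T] [IsSimpleGroup T] {n : ℕ} (hn : n ∈ orders)
    (hS : Nat.card S = n) (hT : Nat.card T = n) : Nonempty (S ≃* T) := by
  haveI : Fact (Nat.Prime 2) := ⟨Nat.prime_two⟩
  haveI : Fact (Nat.Prime 7) := ⟨by norm_num⟩
  haveI : Fact (Nat.Prime 11) := ⟨by norm_num⟩
  haveI : Fact (Nat.Prime 13) := ⟨by norm_num⟩
  haveI : Fact (Nat.Prime 17) := ⟨by norm_num⟩
  haveI : Fact (Nat.Prime 19) := ⟨by norm_num⟩
  haveI : Fintype (GaloisField 2 3) := Fintype.ofFinite _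
  haveI : Fintype (GaloisField 2 4) := Fintype.ofFinite _
  have h8 : Fintype.card (GaloisField 2 3) = 8 := by
    rw [← Nat.card_eq_fintype_card, GaloisField.card 2 3 (by norm_num)]; norm_num
  have h16 : Fintype.card (GaloisField 2 4) = 16 := by
    rw [← Nat.card_eq_fintype_card, GaloisField.card 2 4 (by norm_num)]; norm_num
  simp only [orders, List.mem_cons, List.not_mem_nil, or_false] at hn
  rcases hn with rfl | rfl | rfl | rfl | rfl | rfl | rfl | rfl | rfl | rfl | rfl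
  · obtain ⟨a⟩ := Cfsg.Agent.S0494.result hS
    obtain ⟨b⟩ := Cfsg.Agent.S0494.result hT
    exact ⟨a.trans b.symm⟩
  · obtain ⟨a⟩ := Cfsg.Agent.S0495.result hS (ZMod.card 7)
    obtain ⟨b⟩ := Cfsg.Agent.S0495.result hT (ZMod.card 7)
    exact ⟨a.trans b.symm⟩
  · obtain ⟨a⟩ := Cfsg.Agent.S0497.result hS
    obtain ⟨b⟩ := Cfsg.Agent.S0497.result hT
    exact ⟨a.trans b.symm⟩
  · obtain ⟨a⟩ := Cfsg.Agent.S1011.result hS h8
    obtain ⟨b⟩ := Cfsg.Agent.S1011.result hT h8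
    exact ⟨a.trans b.symm⟩
  · obtain ⟨a⟩ := Cfsg.Agent.S0498.result (G := S) 11 (Or.inl rfl) (by rw [hS]; norm_num) (ZMod.card 11)
    obtain ⟨b⟩ := Cfsg.Agent.S0498.result (G := T) 11 (Or.inl rfl) (by rw [hT]; norm_num) (ZMod.card 11)
    exact ⟨a.trans b.symm⟩
  · obtain ⟨a⟩ := Cfsg.Agent.S0498.result (G := S) 13 (Or.inr rfl) (by rw [hS]; norm_num) (ZMod.card 13)
    obtain ⟨b⟩ := Cfsg.Agent.S0498.result (G := T) 13 (Or.inr rfl) (by rw [hT]; norm_num) (ZMod.card 13)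
    exact ⟨a.trans b.symm⟩
  · obtain ⟨a⟩ := Cfsg.Agent.S1020.result hS (ZMod.card 17)
    obtain ⟨b⟩ := Cfsg.Agent.S1020.result hT (ZMod.card 17)
    exact ⟨a.trans b.symm⟩
  · obtain ⟨a⟩ := Cfsg.Agent.S0984.result hS
    obtain ⟨b⟩ := Cfsg.Agent.S0984.result hT
    exact ⟨a.trans b.symm⟩
  · obtain ⟨a⟩ := Cfsg.Agent.S1021.result hS (ZMod.card 19)
    obtain ⟨b⟩ := Cfsg.Agent.S1021.result hT (ZMod.card 19)
    exact ⟨a.trans b.symm⟩
  · obtain ⟨a⟩ := Cfsg.Agent.S0981.result hS h16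
    obtain ⟨b⟩ := Cfsg.Agent.S0981.result hT h16
    exact ⟨a.trans b.symm⟩
  · obtain ⟨a⟩ := LThreeThreeOrder.iso_psl hS
    obtain ⟨b⟩ := LThreeThreeOrder.iso_psl hT
    exact ⟨a.trans b.symm⟩

/-- The degree graph of one of these groups from the field. -/
theorem psl_data {F : Type} [Field F] [Fintype F] {q t e n : ℕ} (hn : n ∈ orders) (hS : Nat.card S = n)
    (hq : Fintype.card F = q) (h4 : 4 ≤ q) (h5 : Odd q → 5 < q) (ht : t.Prime) (hqt : q = t ^ e)
    (hcard : Nat.gcd 2 (q - 1) * n = q * (q ^ 2 - 1)) :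
    degreePrimes S = {r : ℕ | r.Prime ∧ r ∣ q * (q ^ 2 - 1)} ∧
      ∀ r s : ℕ, (degreeGraph S).Adj r s ↔ r ≠ s ∧ r.Prime ∧ s.Prime ∧
        ((r ∣ q + 1 ∧ s ∣ q + 1) ∨ (r ∣ q - 1 ∧ s ∣ q - 1)) := by
  classical
  subst hq
  haveI := Cfsg.Lib.Dickson.isSimpleGroup_psl_two (F := F) h4
  have h := Cfsg.Lib.Linear.Two.card_PSL_two (F := F)
  rw [← hcard] at h
  have hM : Nat.card (Matrix.ProjectiveSpecialLinearGroup (Fin 2) F) = n :=
    Nat.eq_of_mul_eq_mul_left (Nat.gcd_pos_of_pos_left _ two_pos) h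
  exact Cfsg.Lib.TwoDim.degree_graph_sl h4 h5 ht hqt (Or.inl (iso_of_card hn hS hM))

/-- The character facts at order 2520. -/
theorem degrees_2520 (hS : Nat.card S = 2520) :
    (∃ χ : IrrCharacter S, 35 ∣ charDegree (χ : S → ℂ)) ∧
      (∃ χ : IrrCharacter S, 21 ∣ charDegree (χ : S → ℂ)) ∧
        (∃ χ : IrrCharacter S, 15 ∣ charDegree (χ : S → ℂ)) ∧
          (∃ χ : IrrCharacter S, 2 ∣ charDegree (χ : S → ℂ)) := by
  classical
  haveI := Fintype.ofFinite S
  haveI : Fact (Nat.Prime 5) := ⟨by norm_num⟩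
  haveI : Fact (Nat.Prime 7) := ⟨by norm_num⟩
  have hnc : ¬ IsCyclic S := not_isCyclic_of_card (by rw [hS]; norm_num)
  have hcomm : ¬ IsMulCommutative S := fun h => hnc (by
    let _ : CommGroup S := { (inferInstance : Group S) with mul_comm := fun a b => h.is_comm.comm a b }
    exact IsSimpleGroup.isCyclic)
  obtain ⟨P5, e5, k5, ⟨S5⟩, he5, hk5, -, hC5, hopt5⟩ :=
    option_count (p := 5) hcomm (by norm_num) hS (by norm_num) (by norm_num) (by norm_num) (by norm_num)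
  obtain ⟨rfl, rfl⟩ := (show ∀ e ∈ List.range 5, ∀ k ∈ List.range (2520 / 5 / 5 + 1),
    OrderFilter.optK 2520 5 (fun _ => true) e k = true → e = 4 ∧ k = 25 by decide +kernel) e5 he5 k5 hk5 hopt5
  have hC5' : Nat.card (Subgroup.centralizer ((P5 : Subgroup S) : Set S)) = 5 := by
    rw [hC5]; decide +kernel
  obtain ⟨P7, e7, k7, ⟨S7⟩, he7, hk7, -, hC7, hopt7⟩ :=
    option_count (p := 7) hcomm (by norm_num) hS (by norm_num) (by norm_num) (by norm_num) (by norm_num)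
  obtain ⟨rfl, rfl⟩ := (show ∀ e ∈ List.range 7, ∀ k ∈ List.range (2520 / 7 / 7 + 1),
    OrderFilter.optK 2520 7 (fun _ => true) e k = true → e = 3 ∧ k = 17 by decide +kernel) e7 he7 k7 hk7 hopt7
  have hC7' : Nat.card (Subgroup.centralizer ((P7 : Subgroup S) : Set S)) = 7 := by
    rw [hC7]; decide +kernel
  have hm5 : Nat.card S = 5 * 504 := by rw [hS]
  have hm7 : Nat.card S = 7 * 360 := by rw [hS]
  have hY5 : S5.Y = {S5.θ} := by
    have h1 : S5.Y.card = 1 := by rw [S5.card_Y]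
    obtain ⟨w, hw⟩ := Finset.card_eq_one.1 h1
    have := S5.θ_mem
    rw [hw, Finset.mem_singleton] at this
    rw [hw, this]
  have hcov5 : ∀ χ : IrrCharacter S, χ ∈ S5.Z ∨ 5 ∣ charDegree (χ : S → ℂ) := fun χ => by
    rcases mem_block_or_dvd S5 hC5' hm5 (by norm_num) χ with h | h | h
    · exact Or.inl (S5.mem_Z.2 (Or.inr h))
    · rw [hY5, Finset.mem_singleton] at h; exact Or.inl (S5.mem_Z.2 (Or.inl h))
    · exact Or.inr h
  have hmod5 : ∀ χ : IrrCharacter S, charDegree (χ : S → ℂ) % 5 = 0 ∨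
      charDegree (χ : S → ℂ) % 5 = 1 ∨ charDegree (χ : S → ℂ) % 5 = 4 := fun χ => by
    rcases hcov5 χ with h | h
    · have hc := Int.emod_eq_zero_of_dvd (Int.modEq_iff_dvd.1 (S5.cong_all rfl h).symm)
      rcases S5.sign χ h with hs | hs <;> rw [hs] at hc <;> omega
    · left; omega
  obtain ⟨a, b, d₁, d₂, f, ⟨ha, hane, had⟩, ⟨hb, hbne, hbd⟩, ⟨hθ, hθd⟩, h1, h2, h3, hd1, hd2, hd3, hsq,
    s₁, hs₁, s₂, hs₂, s, hs, hc1, hc2, hc3, hsum⟩ := S7.three_cases hnc hm7 rfl (by norm_num)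
  have hblock : (f = 4 ∧ (d₁ = 15 ∧ d₂ = 20 ∨ d₁ = 20 ∧ d₂ = 15)) ∨
      (f = 10 ∧ (d₁ = 6 ∧ d₂ = 15 ∨ d₁ = 15 ∧ d₂ = 6)) :=
    (show ∀ d₁ ∈ Nat.divisors 360, 2 ≤ d₁ → (d₁ % 5 = 0 ∨ d₁ % 5 = 1 ∨ d₁ % 5 = 4) →
      ∀ s₁ ∈ ([1, -1] : List ℤ), (s₁ * (d₁ : ℤ) - 1) % 7 = 0 → ∀ d₂ ∈ Nat.divisors 360, 2 ≤ d₂ →
      (d₂ % 5 = 0 ∨ d₂ % 5 = 1 ∨ d₂ % 5 = 4) →
      ∀ s₂ ∈ ([1, -1] : List ℤ), (s₂ * (d₂ : ℤ) - 1) % 7 = 0 → ∀ f ∈ Nat.divisors 360, 2 ≤ f →
      (f % 5 = 0 ∨ f % 5 = 1 ∨ f % 5 = 4) → ∀ s ∈ ([1, -1] : List ℤ),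
      (s * (f : ℤ) + 3) % 7 = 0 → 1 + s₁ * d₁ + s₂ * d₂ + s * f = 0 →
      1 + d₁ ^ 2 + d₂ ^ 2 + (7 - 1) / 3 * f ^ 2 ≤ 2520 →
      (f = 4 ∧ (d₁ = 15 ∧ d₂ = 20 ∨ d₁ = 20 ∧ d₂ = 15)) ∨
      (f = 10 ∧ (d₁ = 6 ∧ d₂ = 15 ∨ d₁ = 15 ∧ d₂ = 6)) by decide +kernel)
      d₁ (Nat.mem_divisors.2 ⟨hd1, by norm_num⟩) h1 (had ▸ hmod5 a) s₁ hs₁ hc1
      d₂ (Nat.mem_divisors.2 ⟨hd2, by norm_num⟩) h2 (hbd ▸ hmod5 b) s₂ hs₂ hc2
      f (Nat.mem_divisors.2 ⟨hd3, by norm_num⟩) h3 (hθd ▸ hmod5 _) s hs hc3 hsum (by rwa [hS] at hsq)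
  -- the members of the block at seven
  have hab : a ≠ b := fun e => by
    have : d₁ = d₂ := by rw [← had, ← hbd, e]
    omega
  have hane' : a ≠ S7.θ := fun e => by
    have : d₁ = f := by rw [← had, ← hθd, e]
    omega
  have hbne' : b ≠ S7.θ := fun e => by
    have : d₂ = f := by rw [← hbd, ← hθd, e]
    omega
  have hZ7 : S7.Z = {S7.θ, one' S, a, b} := by
    refine (Finset.eq_of_subset_of_card_le ?_ ?_).symm
    · intro χ hχ
      simp only [Finset.mem_insert, Finset.mem_singleton] at hχ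
      rcases hχ with rfl | rfl | rfl | rfl
      exacts [S7.mem_Z.2 (Or.inl rfl), S7.one_mem, ha, hb]
    · rw [S7.card_Z, Finset.card_insert_of_notMem (by simp [hθ, hane'.symm, hbne'.symm]),
        Finset.card_insert_of_notMem (by simp [hane.symm, hbne.symm]), Finset.card_pair hab]
  have hY7 : ∀ χ ∈ S7.Y, charDegree (χ : S → ℂ) = f := fun χ hχ => by
    have h := S7.agree χ hχ 1 (by rw [orderOf_one]; norm_num)
    rw [Block.apply_one_eq_charDegree, Block.apply_one_eq_charDegree, Nat.cast_inj] at h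
    rw [h, hθd]
  have hmod7 : ∀ χ : IrrCharacter S, 7 ∣ charDegree (χ : S → ℂ) ∨
      charDegree (χ : S → ℂ) ∈ ([1, 4, 6, 10, 15, 20] : List ℕ) := fun χ => by
    rcases mem_block_or_dvd S7 hC7' hm7 (by norm_num) χ with h | h | h
    · right
      have hZ := S7.mem_Z.2 (Or.inr h)
      rw [hZ7] at hZ
      simp only [Finset.mem_insert, Finset.mem_singleton] at hZ
      simp only [List.mem_cons, List.not_mem_nil, or_false]
      rcases hZ with rfl | rfl | rfl | rfl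
      · rw [hθd]; omega
      · rw [charDegree_one']; omega
      · rw [had]; omega
      · rw [hbd]; omega
    · right
      simp only [List.mem_cons, List.not_mem_nil, or_false]
      rw [hY7 χ h]; omega
    · exact Or.inl h
  -- the members of the block at five
  have hlt5 : ∀ χ ∈ S5.Z, charDegree (χ : S → ℂ) < 51 := fun χ _ => by
    have h := Finset.single_le_sum (f := fun χ : IrrCharacter S => charDegree (χ : S → ℂ) ^ 2)
      (fun i _ => Nat.zero_le _) (Finset.mem_univ χ)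
    rw [sum_sq_charDegree, hS] at h
    by_contra hlt
    nlinarith
  have hdeg5 : ∀ χ ∈ S5.Z, χ ≠ one' S → charDegree (χ : S → ℂ) ∈ ([4, 6, 14, 21] : List ℕ) := by
    intro χ hχ hne
    have hc := Int.emod_eq_zero_of_dvd (Int.modEq_iff_dvd.1 (S5.cong_all rfl hχ).symm)
    refine (show ∀ d ∈ Nat.divisors 504, 2 ≤ d → d < 51 → (d % 5 = 1 ∨ d % 5 = 4) →
      (7 ∣ d ∨ d ∈ ([1, 4, 6, 10, 15, 20] : List ℕ)) → d ∈ ([4, 6, 14, 21] : List ℕ) by decide +kernel) _
      (Nat.mem_divisors.2 ⟨S5.deg_dvd hm5 hχ, by norm_num⟩) (two_le_charDegree hnc hne) (hlt5 χ hχ) ?_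
      (hmod7 χ)
    rcases S5.sign χ hχ with hs | hs <;> rw [hs] at hc <;> omega
  refine ⟨?_, ?_, ?_, ⟨S7.θ, by rw [hθd]; omega⟩⟩
  · by_contra hno
    push Not at hno
    have hall : (Finset.univ : Finset (IrrCharacter S)) ⊆ S5.Z ∪ (S7.Y ∪ {one' S, a, b}) := by
      intro χ _
      simp only [Finset.mem_union]
      rcases hcov5 χ with h | h
      · exact Or.inl h
      right
      rcases mem_block_or_dvd S7 hC7' hm7 (by norm_num) χ with h' | h' | h'
      · have hZ := S7.mem_Z.2 (Or.inr h')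
        rw [hZ7] at hZ
        simp only [Finset.mem_insert, Finset.mem_singleton] at hZ ⊢
        rcases hZ with rfl | hZ
        · exact absurd h' S7.θ_notMem
        · exact Or.inr hZ
      · exact Or.inl h'
      · exact absurd (Nat.Coprime.mul_dvd_of_dvd_of_dvd (by norm_num : Nat.Coprime 5 7) h h') (hno χ)
    have h := Finset.sum_le_sum_of_subset (f := fun χ : IrrCharacter S => charDegree (χ : S → ℂ) ^ 2) hall
    rw [sum_sq_charDegree, hS] at h
    have h5 : ∑ χ ∈ S5.Z, charDegree (χ : S → ℂ) ^ 2 ≤ 1765 := by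
      rw [← Finset.add_sum_erase _ _ S5.one_mem, charDegree_one']
      have hle := Finset.sum_le_card_nsmul (S5.Z.erase (one' S))
        (fun χ : IrrCharacter S => charDegree (χ : S → ℂ) ^ 2) 441 fun χ hχ => by
          have h := hdeg5 χ (Finset.mem_of_mem_erase hχ) (Finset.ne_of_mem_erase hχ)
          simp only [List.mem_cons, List.not_mem_nil, or_false] at h
          rcases h with h | h | h | h <;> rw [h] <;> norm_num
      rw [Finset.card_erase_of_mem S5.one_mem, S5.card_Z, smul_eq_mul] at hle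
      omega
    have h7 : ∑ χ ∈ S7.Y ∪ {one' S, a, b}, charDegree (χ : S → ℂ) ^ 2 ≤ 726 := by
      have h7' := Finset.sum_union_inter (s₁ := S7.Y) (s₂ := ({one' S, a, b} : Finset (IrrCharacter S)))
        (f := fun χ : IrrCharacter S => charDegree (χ : S → ℂ) ^ 2)
      have hY : ∑ χ ∈ S7.Y, charDegree (χ : S → ℂ) ^ 2 = 2 * f ^ 2 := by
        rw [Finset.sum_congr rfl fun χ hχ => by rw [hY7 χ hχ], Finset.sum_const, S7.card_Y, smul_eq_mul]
      rw [hY, Finset.sum_insert (by simp [hane.symm, hbne.symm]), Finset.sum_pair hab, charDegree_one',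
        had, hbd] at h7'
      rcases hblock with ⟨rfl, ⟨rfl, rfl⟩ | ⟨rfl, rfl⟩⟩ | ⟨rfl, ⟨rfl, rfl⟩ | ⟨rfl, rfl⟩⟩ <;> omega
    have hu := Finset.sum_union_inter (s₁ := S5.Z) (s₂ := S7.Y ∪ {one' S, a, b})
      (f := fun χ : IrrCharacter S => charDegree (χ : S → ℂ) ^ 2)
    omega
  · by_contra hno
    push Not at hno
    refine S5.not_all_even fun χ hχ hne => ?_
    have h := hdeg5 χ hχ hne
    simp only [List.mem_cons, List.not_mem_nil, or_false] at h
    rcases h with h | h | h | h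
    · rw [h]; norm_num
    · rw [h]; norm_num
    · rw [h]; norm_num
    · exact absurd (dvd_of_eq h.symm) (hno χ)
  · rcases hblock with ⟨-, ⟨h, -⟩ | ⟨-, h⟩⟩ | ⟨-, ⟨-, h⟩ | ⟨h, -⟩⟩
    · exact ⟨a, by rw [had, h]⟩
    · exact ⟨b, by rw [hbd, h]⟩
    · exact ⟨b, by rw [hbd, h]⟩
    · exact ⟨a, by rw [had, h]⟩

/-- The degree primes at order 5616. -/
theorem primes_5616 (hS : Nat.card S = 5616) :
    ∀ p ∈ ([2, 3, 13] : List ℕ), p ∈ degreePrimes S := by
  classical
  haveI := Fintype.ofFinite S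
  obtain ⟨B⟩ := LThreeThreeOrder.exists_blockData hS
  intro p hp
  simp only [List.mem_cons, List.not_mem_nil, or_false] at hp
  rcases hp with rfl | rfl | rfl
  · exact ⟨by norm_num, _, ⟨B.χa, rfl⟩, by rw [B.deg_a]; norm_num⟩
  · exact ⟨by norm_num, _, ⟨B.χa, rfl⟩, by rw [B.deg_a]; norm_num⟩
  · refine ⟨by norm_num, ?_⟩
    by_contra hno
    push Not at hno
    have hT : B.T = Finset.univ := Finset.eq_univ_of_forall fun χ => by
      by_contra hχ
      exact hno _ ⟨χ, rfl⟩ (B.notMem_T hχ)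
    have h : ∑ χ ∈ B.T, charDegree (χ : S → ℂ) ^ 2 = 5616 := by rw [hT, sum_sq_charDegree, hS]
    have h' := B.sum_T (fun χ => ((charDegree (χ : S → ℂ) ^ 2 : ℕ) : ℂ))
    rw [← Nat.cast_sum, h, Finset.sum_congr rfl fun χ hχ => by rw [B.deg_θ χ hχ], Finset.sum_const,
      B.card_Y, charDegree_one', B.deg_a, B.deg_c] at h'
    norm_num at h'

/-- The primes of the order are degree primes, and the extra edges at four of the orders. -/
theorem simple_data {n : ℕ} (hn : n ∈ orders) (hS : Nat.card S = n) :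
    (∀ p : ℕ, p.Prime → p ∣ n → p ∈ degreePrimes S) ∧
      (n = 360 → (degreeGraph S).Adj 2 5 ∧ ¬ (degreeGraph S).Adj 2 3) ∧
      (n = 504 → ¬ (degreeGraph S).Adj 2 3) ∧
      (n = 2520 → (degreeGraph S).Adj 5 7 ∧ (degreeGraph S).Adj 3 7 ∧ (degreeGraph S).Adj 3 5) := by
  haveI : Fact (Nat.Prime 2) := ⟨Nat.prime_two⟩
  haveI : Fact (Nat.Prime 3) := ⟨Nat.prime_three⟩
  haveI : Fact (Nat.Prime 7) := ⟨by norm_num⟩
  haveI : Fact (Nat.Prime 11) := ⟨by norm_num⟩
  haveI : Fact (Nat.Prime 13) := ⟨by norm_num⟩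
  haveI : Fact (Nat.Prime 17) := ⟨by norm_num⟩
  haveI : Fact (Nat.Prime 19) := ⟨by norm_num⟩
  haveI : Fintype (GaloisField 2 2) := Fintype.ofFinite _
  haveI : Fintype (GaloisField 2 3) := Fintype.ofFinite _
  haveI : Fintype (GaloisField 2 4) := Fintype.ofFinite _
  haveI : Fintype (GaloisField 3 2) := Fintype.ofFinite _
  have hc : ∀ (p k : ℕ) [Fact p.Prime] [Fintype (GaloisField p k)], k ≠ 0 →
      Fintype.card (GaloisField p k) = p ^ k := fun p k _ _ hk => by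
    rw [← Nat.card_eq_fintype_card, GaloisField.card p k hk]
  have primes : ∀ {q : ℕ}, degreePrimes S = {r : ℕ | r.Prime ∧ r ∣ q * (q ^ 2 - 1)} →
      Nat.gcd 2 (q - 1) * n = q * (q ^ 2 - 1) → ∀ p : ℕ, p.Prime → p ∣ n → p ∈ degreePrimes S := by
    intro q h hq p hp hpn
    rw [h]
    exact ⟨hp, hq ▸ dvd_mul_of_dvd_right hpn _⟩
  have hn' := hn
  simp only [orders, List.mem_cons, List.not_mem_nil, or_false] at hn'
  rcases hn' with rfl | rfl | rfl | rfl | rfl | rfl | rfl | rfl | rfl | rfl | rfl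
  · obtain ⟨hp, -⟩ := psl_data (t := 2) (e := 2) hn hS (hc 2 2 (by norm_num)) (by norm_num)
      (fun h => absurd h (by decide)) Nat.prime_two rfl (by decide +kernel)
    exact ⟨primes hp (by decide +kernel), by omega, by omega, by omega⟩
  · obtain ⟨hp, -⟩ := psl_data (t := 7) (e := 1) hn hS (ZMod.card 7) (by norm_num)
      (fun _ => by norm_num) (by norm_num) rfl (by decide +kernel)
    exact ⟨primes hp (by decide +kernel), by omega, by omega, by omega⟩
  · obtain ⟨hp, hadj⟩ := psl_data (t := 3) (e := 2) hn hS (hc 3 2 (by norm_num)) (by norm_num)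
      (fun _ => by norm_num) Nat.prime_three rfl (by decide +kernel)
    refine ⟨primes hp (by decide +kernel), fun _ => ⟨(hadj 2 5).2 ?_, fun h => ?_⟩, by omega, by omega⟩
    · exact ⟨by norm_num, Nat.prime_two, by norm_num, Or.inl ⟨by norm_num, by norm_num⟩⟩
    · obtain ⟨-, -, -, h⟩ := (hadj 2 3).1 h
      norm_num at h
  · obtain ⟨hp, hadj⟩ := psl_data (t := 2) (e := 3) hn hS (hc 2 3 (by norm_num)) (by norm_num)
      (fun h => absurd h (by decide)) Nat.prime_two rfl (by decide +kernel)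
    refine ⟨primes hp (by decide +kernel), by omega, fun _ h => ?_, by omega⟩
    obtain ⟨-, -, -, h⟩ := (hadj 2 3).1 h
    norm_num at h
  · obtain ⟨hp, -⟩ := psl_data (t := 11) (e := 1) hn hS (ZMod.card 11) (by norm_num)
      (fun _ => by norm_num) (by norm_num) rfl (by decide +kernel)
    exact ⟨primes hp (by decide +kernel), by omega, by omega, by omega⟩
  · obtain ⟨hp, -⟩ := psl_data (t := 13) (e := 1) hn hS (ZMod.card 13) (by norm_num)
      (fun _ => by norm_num) (by norm_num) rfl (by decide +kernel)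
    exact ⟨primes hp (by decide +kernel), by omega, by omega, by omega⟩
  · obtain ⟨hp, -⟩ := psl_data (t := 17) (e := 1) hn hS (ZMod.card 17) (by norm_num)
      (fun _ => by norm_num) (by norm_num) rfl (by decide +kernel)
    exact ⟨primes hp (by decide +kernel), by omega, by omega, by omega⟩
  · haveI := Fintype.ofFinite S
    obtain ⟨⟨a, ha⟩, ⟨b, hb⟩, ⟨c, hc'⟩, ⟨d, hd⟩⟩ := degrees_2520 hS
    have h57 := adj_of_dvd (G := S) (p := 5) (q := 7) (by norm_num) (by norm_num) (by norm_num) ⟨a, ha⟩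
    have h37 := adj_of_dvd (G := S) (p := 3) (q := 7) (by norm_num) (by norm_num) (by norm_num) ⟨b, hb⟩
    have h35 := adj_of_dvd (G := S) (p := 3) (q := 5) (by norm_num) (by norm_num) (by norm_num) ⟨c, hc'⟩
    refine ⟨fun p hp hpn => ?_, by omega, by omega, fun _ => ⟨h57, h37, h35⟩⟩
    have hp7 : p = 2 ∨ p = 3 ∨ p = 5 ∨ p = 7 := by
      have h := Nat.mem_primeFactors.2 ⟨hp, hpn, by norm_num⟩
      revert h
      have : Nat.primeFactors 2520 = {2, 3, 5, 7} := by decide +kernel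
      rw [this]
      simp
    rcases hp7 with rfl | rfl | rfl | rfl
    · exact ⟨hp, _, ⟨d, rfl⟩, hd⟩
    · exact ⟨hp, _, ⟨c, rfl⟩, (dvd_mul_right 3 5).trans hc'⟩
    · exact ⟨hp, _, ⟨c, rfl⟩, (dvd_mul_left 5 3).trans hc'⟩
    · exact ⟨hp, _, ⟨a, rfl⟩, (dvd_mul_left 7 5).trans ha⟩
  · obtain ⟨hp, -⟩ := psl_data (t := 19) (e := 1) hn hS (ZMod.card 19) (by norm_num)
      (fun _ => by norm_num) (by norm_num) rfl (by decide +kernel)
    exact ⟨primes hp (by decide +kernel), by omega, by omega, by omega⟩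
  · obtain ⟨hp, -⟩ := psl_data (t := 2) (e := 4) hn hS (hc 2 4 (by norm_num)) (by norm_num)
      (fun h => absurd h (by decide)) Nat.prime_two rfl (by decide +kernel)
    exact ⟨primes hp (by decide +kernel), by omega, by omega, by omega⟩
  · refine ⟨fun p hp hpn => primes_5616 hS p ?_, by omega, by omega, by omega⟩
    have h := Nat.mem_primeFactors.2 ⟨hp, hpn, by norm_num⟩
    revert h
    have : Nat.primeFactors 5616 = {2, 3, 13} := by decide +kernel
    rw [this]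
    simp

end Cfsg.Lib.Small.Gap
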