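import Cfsg.Agent.Lib.Small.Gap.Tools
import Cfsg.Agent.Lib.Small.Order5400
import Cfsg.Agent.S0978
import Cfsg.Agent.S1010

/-!
# Orders between 1093 and 3640 not settled by the decidable filters

No non-abelian simple group has order 1344, 1404, 1512, 1620, 1680, 1800, 2160, 2400, 2700, 3360
or 3600.
-/

set_option autoImplicit false
set_option linter.unusedSectionVars false
set_option linter.style.haveILetI false

namespace Cfsg.Lib.Small.Gap

open Cfsg Cfsg.Lib Cfsg.Lib.Small Cfsg.Lib.Small.OrderFilter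

universe u

variable {G : Type u} [Group G] [Finite G] [IsSimpleGroup G]

/-- The exceptional degree is not a degree outside the exceptional characters. -/
theorem theta_only [Fintype G] {p : ℕ} [Fact p.Prime] {P : Sylow p G} {e : ℕ} (S : Shape P e)
    (hC : Nat.card (Subgroup.centralizer ((P : Subgroup G) : Set G)) = p) {m : ℕ}
    (hm : Nat.card G = p * m) (hpm : ¬ p ∣ m) {f : ℕ} (hf : charDegree (S.θ : G → ℂ) = f)
    (h1 : ((f : ℤ) - 1) % (p : ℤ) ≠ 0) (h2 : ((f : ℤ) + 1) % (p : ℤ) ≠ 0) :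
    ∀ χ : IrrCharacter G, charDegree (χ : G → ℂ) = charDegree (S.θ : G → ℂ) → χ ∈ S.Y := by
  intro χ hχ
  rcases mem_block_or_dvd S hC hm hpm χ with h | h | h
  · exfalso
    have hc := S.cong χ h
    rw [hχ, hf] at hc
    rcases S.sign χ (S.mem_Z.2 (Or.inr h)) with hs | hs <;> rw [hs] at hc
    · exact h1 (by rw [one_mul] at hc; exact Int.emod_eq_zero_of_dvd (Int.modEq_iff_dvd.1 hc.symm))
    · refine h2 (Int.emod_eq_zero_of_dvd ?_)
      have := Int.modEq_iff_dvd.1 hc
      rw [show (1 : ℤ) - -1 * (f : ℤ) = (f : ℤ) + 1 by ring] at this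
      exact this
  · exact h
  · exact absurd (hχ ▸ h) (S.not_dvd_deg (S.mem_Z.2 (Or.inl rfl)))

omit [IsSimpleGroup G] in
/-- The order of a Sylow normalizer. -/
theorem normalizer_card {p : ℕ} [Fact p.Prime] (P : Sylow p G) {n N s : ℕ} (hn : Nat.card G = n)
    (hs : Nat.card (Sylow p G) = s) (hN : n = s * N) :
    Nat.card (Subgroup.normalizer ((P : Subgroup G) : Set G)) = N := by
  have h := card_normalizer_mul P
  rw [hs, hn, hN] at h
  exact Nat.eq_of_mul_eq_mul_left (Nat.pos_of_ne_zero fun h0 => by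
    rw [← hs] at h0; exact (Nat.card_pos (α := Sylow p G)).ne' h0) h

omit [IsSimpleGroup G] in
/-- A unique Sylow subgroup of `H` is normalized by the normalizer of `H`. -/
theorem normalizer_le_of_unique {p : ℕ} [Fact p.Prime] (P : Sylow p G) {H : Subgroup G}
    (hPH : (P : Subgroup G) ≤ H) (h1 : Nat.card (Sylow p H) = 1) :
    Subgroup.normalizer (H : Set G) ≤ Subgroup.normalizer ((P : Subgroup G) : Set G) := by
  intro g hg
  refine Sylow.smul_eq_iff_mem_normalizer.1 ?_
  have hsub : ((g • P : Sylow p G) : Subgroup G) ≤ H := by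
    intro y hy
    obtain ⟨z, hz, rfl⟩ := hy
    exact (Subgroup.mem_normalizer_iff.1 hg z).1 (hPH hz)
  haveI : Subsingleton (Sylow p H) := Finite.card_le_one_iff_subsingleton.1 h1.le
  have h := congrArg (fun T : Sylow p H => (T : Subgroup H))
    (Subsingleton.elim ((g • P).subtype hsub) (P.subtype hPH))
  simp only [Sylow.coe_subtype, Subgroup.subgroupOf_inj, inf_eq_left.2 hsub, inf_eq_left.2 hPH] at h
  exact Sylow.ext h

omit [IsSimpleGroup G] in
theorem normalizer_le_normalizer_centralizer (H : Subgroup G) :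
    Subgroup.normalizer (H : Set G) ≤
      Subgroup.normalizer ((Subgroup.centralizer (H : Set G)) : Set G) := by
  intro g hg
  refine Subgroup.mem_normalizer_fintype fun c hc => ?_
  rw [SetLike.mem_coe] at hc ⊢
  rw [Subgroup.mem_centralizer_iff] at hc ⊢
  intro y hy
  have hy' : g⁻¹ * y * g ∈ H :=
    (Subgroup.mem_normalizer_iff''.1 hg y).1 hy
  have h1 := hc _ hy'
  calc y * (g * c * g⁻¹) = g * (g⁻¹ * y * g * c) * g⁻¹ := by group
    _ = g * (c * (g⁻¹ * y * g)) * g⁻¹ := by rw [h1]
    _ = g * c * g⁻¹ * y := by group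

/-- The eigenvalue bound contradicts the exponent. -/
theorem ne_1344 (hG : ¬ IsMulCommutative G) : Nat.card G ≠ 1344 := by
  classical
  intro h
  haveI := Fintype.ofFinite G
  haveI : Fact (Nat.Prime 7) := ⟨by norm_num⟩
  haveI : Fact (Nat.Prime 2) := ⟨by norm_num⟩
  obtain ⟨P, e, k, ⟨S⟩, he, hk, -, hC, hopt⟩ :=
    option_count (p := 7) hG (by norm_num) h (by norm_num) (by norm_num) (by norm_num) (by norm_num)
  obtain ⟨rfl, rfl⟩ := (show ∀ e ∈ List.range 7, ∀ k ∈ List.range (1344 / 7 / 7 + 1),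
    optK 1344 7 (fun _ => true) e k = true → e = 3 ∧ k = 9 by decide +kernel) e he k hk hopt
  have hC7 : Nat.card (Subgroup.centralizer ((P : Subgroup G) : Set G)) = 7 := by
    rw [hC]; decide +kernel
  have hm : Nat.card G = 7 * 192 := by rw [h]
  obtain ⟨χ, ψ, d₁, d₂, f, -, -, ⟨hθ, hf⟩, h1, h2, h3, hd1, hd2, hf', hsq, s₁, hs₁, s₂, hs₂, s,
      hs, hc1, hc2, hc3, hsum⟩ := S.three_cases (OrderFilter.not_isCyclic hG) hm rfl (by norm_num)
  have hf3 : f = 3 := (show ∀ d₁ ∈ Nat.divisors 192, 2 ≤ d₁ → ∀ s₁ ∈ ([1, -1] : List ℤ),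
      (s₁ * (d₁ : ℤ) - 1) % 7 = 0 → ∀ d₂ ∈ Nat.divisors 192, 2 ≤ d₂ → ∀ s₂ ∈ ([1, -1] : List ℤ),
      (s₂ * (d₂ : ℤ) - 1) % 7 = 0 → ∀ f ∈ Nat.divisors 192, ∀ s ∈ ([1, -1] : List ℤ),
      (s * (f : ℤ) + 3) % 7 = 0 → 1 + s₁ * d₁ + s₂ * d₂ + s * f = 0 →
      1 + d₁ ^ 2 + d₂ ^ 2 + (7 - 1) / 3 * f ^ 2 ≤ 1344 → f = 3 by decide +kernel)
    d₁ (Nat.mem_divisors.2 ⟨hd1, by norm_num⟩) h1 s₁ hs₁ hc1
    d₂ (Nat.mem_divisors.2 ⟨hd2, by norm_num⟩) h2 s₂ hs₂ hc2
    f (Nat.mem_divisors.2 ⟨hf', by norm_num⟩) s hs hc3 hsum (by rwa [h] at hsq)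
  subst hf3
  have hb := sylow_le_degBound S hθ
    (theta_only S hC7 hm (by norm_num) hf (by norm_num) (by norm_num)) (q := 2) (a := 6) (m := 21)
    (by norm_num) (by rw [h]; norm_num) (by norm_num)
  rw [hf] at hb
  revert hb
  decide

/-- A subgroup of index thirteen is too small. -/
theorem ne_1404 (hG : ¬ IsMulCommutative G) : Nat.card G ≠ 1404 := by
  classical
  intro h
  haveI := Fintype.ofFinite G
  haveI : Fact (Nat.Prime 13) := ⟨by norm_num⟩
  haveI : Fact (Nat.Prime 3) := ⟨by norm_num⟩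
  obtain ⟨P, e, k, ⟨S⟩, he, hk, hnS, -, hopt⟩ :=
    option_count (p := 13) hG (by norm_num) h (by norm_num) (by norm_num) (by norm_num) (by norm_num)
  obtain ⟨rfl, rfl⟩ := (show ∀ e ∈ List.range 13, ∀ k ∈ List.range (1404 / 13 / 13 + 1),
    optK 1404 13 (fun _ => true) e k = true → e = 4 ∧ k = 2 by decide +kernel) e he k hk hopt
  have hN : Nat.card (Subgroup.normalizer ((P : Subgroup G) : Set G)) = 52 :=
    normalizer_card P h hnS (by norm_num)
  have hm : Nat.card G = 3 ^ 3 * 52 := by rw [h]; norm_num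
  obtain ⟨k, hk0, hkd, hk3, -⟩ := exists_index hG hm (by norm_num) (by norm_num)
  have hn1 : Nat.card (Sylow 3 G) % (3 * 3) ≠ 1 := by
    rw [hk3]
    exact (show ∀ d ∈ Nat.divisors 52, d % 3 = 1 → d ≠ 1 → d % (3 * 3) ≠ 1 by decide +kernel) _
      (Nat.mem_divisors.2 ⟨hkd, by norm_num⟩) (by omega) (by omega)
  obtain ⟨-, -, R, s, -, -, -, -, -, -, -, hsm, hdiv, htop, hidx⟩ :=
    inter_data hG (by norm_num) hm (by norm_num) hn1
  have hF := F_sound hG htop
  rw [hidx, h] at hF
  have hs : s = 4 := (show ∀ s ∈ Nat.divisors 52, hasDiv 3 s = true → 52 / s ≠ 1 →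
      F (52 / s) 1404 = true → s = 4 by decide +kernel) s (Nat.mem_divisors.2 ⟨hsm, by norm_num⟩) hdiv
    (fun e => htop (Subgroup.index_eq_one.1 (hidx.trans e))) hF
  subst hs
  have hd := normalizer_dvd (p := 13) hG (by norm_num) htop hidx (by norm_num) (by norm_num)
    (by decide +kernel) (P : Subgroup G) S.card_P
  rw [hN] at hd
  exact absurd hd (by decide +kernel)

/-- A character of degree six would have a wrong determinant. -/
theorem ne_1512 (hG : ¬ IsMulCommutative G) : Nat.card G ≠ 1512 := by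
  classical
  intro h
  haveI := Fintype.ofFinite G
  haveI : Fact (Nat.Prime 7) := ⟨by norm_num⟩
  obtain ⟨P, e, k, ⟨S⟩, he, hk, -, hC, hopt⟩ :=
    option_count (p := 7) hG (by norm_num) h (by norm_num) (by norm_num) (by norm_num) (by norm_num)
  obtain ⟨rfl, rfl⟩ := (show ∀ e ∈ List.range 7, ∀ k ∈ List.range (1512 / 7 / 7 + 1),
    optK 1512 7 (fun _ => true) e k = true → e = 6 ∧ k = 5 by decide +kernel) e he k hk hopt
  have hC7 : Nat.card (Subgroup.centralizer ((P : Subgroup G) : Set G)) = 7 := by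
    rw [hC]; decide +kernel
  have hm : Nat.card G = 7 * 216 := by rw [h]
  have hnc := OrderFilter.not_isCyclic hG
  by_cases hex : ∃ χ : IrrCharacter G, charDegree (χ : G → ℂ) = 6
  · obtain ⟨χ, hχ⟩ := hex
    have hY : S.Y = {S.θ} := by
      have h1 : S.Y.card = 1 := by rw [S.card_Y]
      obtain ⟨w, hw⟩ := Finset.card_eq_one.1 h1
      have := S.θ_mem
      rw [hw, Finset.mem_singleton] at this
      rw [hw, this]
    have hχZ : χ ∈ S.Z := by
      rcases mem_block_or_dvd S hC7 hm (by norm_num) χ with h' | h' | h'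
      · exact S.mem_Z.2 (Or.inr h')
      · rw [hY, Finset.mem_singleton] at h'; exact S.mem_Z.2 (Or.inl h')
      · rw [hχ] at h'; norm_num at h'
    obtain ⟨t, x, hx, hx1, ht, hinv, -, -, -, -⟩ :=
      exists_inverting (by norm_num) P S.card_P hC7 S.relIndex_eq (by norm_num)
    obtain ⟨L, b, hb, hL, hbL, -⟩ := S.linBound' (by norm_num) (by rw [← ht, pow_orderOf_eq_one]) hinv
      fun y hy hy1 => S.val_all rfl hχZ hy hy1
    have hσ : S.σ χ = -1 := by
      rcases S.sign χ hχZ with hs | hs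
      · have hc := S.cong_all rfl hχZ
        rw [hs, hχ] at hc
        exact absurd hc (by decide)
      · exact hs
    rw [hχ, hσ] at hL
    have hb0 : b = 0 := by push_cast at hL; omega
    have h4 := Cfsg.Agent.S0978.four_dvd (commutator_eq_top hnc) χ (by rw [← ht, pow_orderOf_eq_one]) hb
    rw [hb0, hχ] at h4
    norm_num at h4
  · push Not at hex
    have hposs := blockPoss_sound S hnc h hm (by norm_num) (fun d => d != 6)
      (fun χ => bne_iff_ne.2 (hex χ)) (L := 2) fun χ _ hne => two_le_charDegree hnc hne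
    exact absurd hposs (by decide +kernel)

/-- The Sylow normalizer forces a cyclic Sylow two-subgroup. -/
theorem ne_1620 (hG : ¬ IsMulCommutative G) : Nat.card G ≠ 1620 := by
  classical
  intro h
  haveI := Fintype.ofFinite G
  haveI : Fact (Nat.Prime 5) := ⟨by norm_num⟩
  haveI : Fact (Nat.Prime 2) := ⟨by norm_num⟩
  obtain ⟨P, e, k, ⟨S⟩, he, hk, hnS, hC, hopt⟩ :=
    option_count (p := 5) hG (by norm_num) h (by norm_num) (by norm_num) (by norm_num) (by norm_num)
  obtain ⟨rfl, rfl⟩ := (show ∀ e ∈ List.range 5, ∀ k ∈ List.range (1620 / 5 / 5 + 1),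
    optK 1620 5 (fun _ => true) e k = true → e = 4 ∧ k = 16 by decide +kernel) e he k hk hopt
  have hC5 : Nat.card (Subgroup.centralizer ((P : Subgroup G) : Set G)) = 5 := by
    rw [hC]; decide +kernel
  set N := Subgroup.normalizer ((P : Subgroup G) : Set G) with hNdef
  have hN : Nat.card N = 20 := normalizer_card P h hnS (by norm_num)
  obtain ⟨T⟩ : Nonempty (Sylow 2 N) := inferInstance
  have hT : Nat.card (T : Subgroup N) = 4 := by
    rw [card_sylow 2 5 (by rw [hN]; norm_num) (by norm_num) T]; norm_num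
  haveI : IsCyclic (P : Subgroup G) := isCyclic_of_prime_card S.card_P
  let φ : (T : Subgroup N) →* (ZMod (Nat.card (P : Subgroup G)))ˣ :=
    ((IsCyclic.mulAutMulEquiv (P : Subgroup G)).toMonoidHom.comp
      (P : Subgroup G).normalizerMonoidHom).comp (T : Subgroup N).subtype
  have hφ : Function.Injective φ := by
    rw [injective_iff_map_eq_one]
    intro a ha
    have h2 : (a : N) ∈ (P : Subgroup G).normalizerMonoidHom.ker := by
      rw [MonoidHom.mem_ker]
      exact (IsCyclic.mulAutMulEquiv (P : Subgroup G)).injective (ha.trans (map_one _).symm)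
    rw [Subgroup.normalizerMonoidHom_ker, Subgroup.mem_subgroupOf] at h2
    have h5 : orderOf a ∣ 5 := by
      have := Subgroup.orderOf_dvd_natCard _ h2
      rwa [hC5, Subgroup.orderOf_coe, Subgroup.orderOf_coe] at this
    have h4 : orderOf a ∣ 4 := hT ▸ orderOf_dvd_natCard a
    exact orderOf_eq_one_iff.1 (Nat.eq_one_of_dvd_coprimes (by norm_num) h4 h5)
  haveI : Fact (Nat.Prime (Nat.card (P : Subgroup G))) := ⟨by rw [S.card_P]; norm_num⟩
  haveI : IsCyclic (T : Subgroup N) := isCyclic_of_injective φ hφ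
  set T' := (T : Subgroup N).map N.subtype with hT'
  have hT'c : Nat.card T' = 2 ^ 2 := by
    rw [hT', Subgroup.card_map_of_injective N.subtype_injective, hT]; norm_num
  obtain ⟨Q, hQ⟩ := (IsPGroup.of_card (p := 2) (n := 2) hT'c).exists_le_sylow
  have hQc : Nat.card (Q : Subgroup G) = 4 := by
    rw [card_sylow 2 405 (by rw [h]; norm_num) (by norm_num) Q]; norm_num
  have hQT : T' = (Q : Subgroup G) :=
    Subgroup.eq_of_le_of_card_ge hQ (by rw [hQc, hT'c]; norm_num)
  have hQcyc : IsCyclic (Q : Subgroup G) := by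
    rw [← hQT, hT']
    exact isCyclic_of_surjective ((T : Subgroup N).equivMapOfInjective _ N.subtype_injective).toMonoidHom
      ((T : Subgroup N).equivMapOfInjective _ N.subtype_injective).surjective
  obtain ⟨H, hH⟩ := Cfsg.Lib.Invol.exists_index_two_of_isCyclic
    (even_iff_two_dvd.2 (by rw [h]; norm_num)) Q hQcyc
  exact OrderLeHundred.no_index_two (OrderFilter.not_isCyclic hG) H hH

theorem ne_1680 (hG : ¬ IsMulCommutative G) : Nat.card G ≠ 1680 := by
  classical
  intro h
  haveI := Fintype.ofFinite G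
  haveI : Fact (Nat.Prime 5) := ⟨by norm_num⟩
  obtain ⟨P, e, k, -, he, hk, hnS, -, hopt⟩ :=
    option_count (p := 5) hG (by norm_num) h (by norm_num) (by norm_num) (by norm_num) (by norm_num)
  obtain ⟨rfl, rfl⟩ := (show ∀ e ∈ List.range 5, ∀ k ∈ List.range (1680 / 5 / 5 + 1),
    optK 1680 5 (fun _ => true) e k = true → e = 4 ∧ k = 4 by decide +kernel) e he k hk hopt
  exact Cfsg.Agent.S1010.result hnS

/-- Two Sylow five-subgroups would generate a subgroup of order `150`. -/
theorem ne_five_sq (hG : ¬ IsMulCommutative G) {n m : ℕ} (hm : n = 5 ^ 2 * m) (hpm : ¬ 5 ∣ m)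
    (hd : ∀ d ∈ Nat.divisors m, d % 5 = 1 → d ≠ 1 → F d n = true → d % (5 * 5) ≠ 1)
    (hs : ∀ s ∈ Nat.divisors m, hasDiv 5 s = true → m / s ≠ 1 → F (m / s) n = true → s = 6) :
    Nat.card G ≠ n := by
  classical
  intro h
  haveI : Fact (Nat.Prime 5) := ⟨by norm_num⟩
  have hm' : Nat.card G = 5 ^ 2 * m := h.trans hm
  have hm0 : m ≠ 0 := fun h0 => hpm (h0 ▸ dvd_zero 5)
  obtain ⟨k, hk0, hkd, hk, hF⟩ := exists_index hG hm' hpm two_ne_zero
  have hn1 : Nat.card (Sylow 5 G) % (5 * 5) ≠ 1 := by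
    rw [hk]
    exact hd _ (Nat.mem_divisors.2 ⟨hkd, hm0⟩) (by omega) (by omega) (by rw [← h]; exact hF)
  obtain ⟨P, Q, R, s, hPQ, -, -, -, hPN, hQN, hNc, hsm, hdiv, htop, hidx⟩ :=
    inter_data hG (le_refl 2) hm' hpm hn1
  have hF' := F_sound hG htop
  rw [hidx, h] at hF'
  have hs6 := hs s (Nat.mem_divisors.2 ⟨hsm, hm0⟩) hdiv
    (fun e => htop (Subgroup.index_eq_one.1 (hidx.trans e))) hF'
  refine (Order5400.card_ne hPQ ?_ hPN hQN).1 (by rw [hNc, hs6]; norm_num)
  rw [card_sylow 2 m hm' hpm P]; norm_num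

theorem ne_1800 (hG : ¬ IsMulCommutative G) : Nat.card G ≠ 1800 :=
  ne_five_sq hG (m := 72) (by norm_num) (by norm_num) (by decide +kernel) (by decide +kernel)

theorem ne_2400 (hG : ¬ IsMulCommutative G) : Nat.card G ≠ 2400 :=
  ne_five_sq hG (m := 96) (by norm_num) (by norm_num) (by decide +kernel) (by decide +kernel)

theorem ne_2700 (hG : ¬ IsMulCommutative G) : Nat.card G ≠ 2700 :=
  ne_five_sq hG (m := 108) (by norm_num) (by norm_num) (by decide +kernel) (by decide +kernel)

/-- The rational bound or the class formula at an involution. -/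
theorem ne_2160 (hG : ¬ IsMulCommutative G) : Nat.card G ≠ 2160 := by
  classical
  intro h
  haveI := Fintype.ofFinite G
  haveI : Fact (Nat.Prime 5) := ⟨by norm_num⟩
  haveI : Fact (Nat.Prime 3) := ⟨by norm_num⟩
  obtain ⟨P, e, k, ⟨S⟩, he, hk, -, hC, hopt⟩ :=
    option_count (p := 5) hG (by norm_num) h (by norm_num) (by norm_num) (by norm_num) (by norm_num)
  obtain ⟨rfl, rfl⟩ := (show ∀ e ∈ List.range 5, ∀ k ∈ List.range (2160 / 5 / 5 + 1),
    optK 2160 5 (fun _ => true) e k = true → e = 2 ∧ k = 43 by decide +kernel) e he k hk hopt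
  have hC5 : Nat.card (Subgroup.centralizer ((P : Subgroup G) : Set G)) = 5 := by
    rw [hC]; decide +kernel
  have hm : Nat.card G = 5 * 432 := by rw [h]
  obtain ⟨χ, hχX, hne, hX, hZ, hθ, h2, h2', hd, hf, hcase, hsq⟩ :=
    S.two_cases (OrderFilter.not_isCyclic hG) hm rfl (by norm_num)
  have hsol : (charDegree (χ : G → ℂ) = 4 ∧ charDegree (S.θ : G → ℂ) = 3) ∨
      (charDegree (χ : G → ℂ) = 9 ∧ charDegree (S.θ : G → ℂ) = 8) := by
    refine (show ∀ d ∈ Nat.divisors 432, 2 ≤ d → ∀ f ∈ Nat.divisors 432, 2 ≤ f →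
      (d % 5 = 1 ∧ f = d + 1 ∨ (d + 1) % 5 = 0 ∧ f + 1 = d) → 1 + d ^ 2 + (5 - 1) / 2 * f ^ 2 ≤ 2160 →
      (d = 4 ∧ f = 3) ∨ (d = 9 ∧ f = 8) by decide +kernel)
      _ (Nat.mem_divisors.2 ⟨hd, by norm_num⟩) h2 _ (Nat.mem_divisors.2 ⟨hf, by norm_num⟩) h2' ?_
      (by rwa [h] at hsq)
    rcases hcase with ⟨-, -, a, b⟩ | ⟨-, -, a, b⟩
    · exact Or.inl ⟨a, b⟩
    · exact Or.inr ⟨a, b⟩
  rcases hsol with ⟨hd4, hf3⟩ | ⟨hd9, hf8⟩
  · have hb := sylow_le_degBound S hθ
      (theta_only S hC5 hm (by norm_num) hf3 (by norm_num) (by norm_num)) (q := 3) (a := 3) (m := 80)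
      (by norm_num) (by rw [h]; norm_num) (by norm_num)
    rw [hf3] at hb
    revert hb
    decide
  · obtain ⟨hσ, hσθ⟩ : S.σ χ = -1 ∧ S.σ S.θ = 1 := by
      rcases hcase with ⟨-, -, a, -⟩ | ⟨a, b, -, -⟩
      · rw [hd9] at a; norm_num at a
      · exact ⟨a, b⟩
    obtain ⟨t, x, hx, hx1, ht, hinv, hcount, -, -, -⟩ :=
      exists_inverting (by norm_num) P S.card_P hC5 S.relIndex_eq dvd_rfl
    have ht2 : t ^ 2 = 1 := by rw [← ht, pow_orderOf_eq_one]
    obtain ⟨L, a, ha, hL, haL, hpar⟩ := S.linBound (by norm_num) ht2 hinv hχX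
    rw [hσ, hd9] at hL
    have hL1 : L = 1 := by push_cast at hL; omega
    subst hL1
    have htreg : ¬ 5 ∣ orderOf t := by rw [ht]; norm_num
    have hθχ : S.θ ∉ ({one' G, χ} : Finset (IrrCharacter G)) := hX ▸ S.θ_notMem
    have h1χ : one' G ∉ ({χ} : Finset (IrrCharacter G)) := by simpa using hne.symm
    have hrel := S.rel t htreg
    rw [hZ, Finset.sum_insert hθχ, Finset.sum_insert h1χ, Finset.sum_singleton, hσθ, S.sign_one, hσ,
      ha, one'_apply] at hrel
    push_cast at hrel
    have hb : (S.θ : G → ℂ) t = ((a - 1 : ℤ) : ℂ) := by push_cast; linear_combination hrel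
    have hfm := S.formula_int hC5 htreg htreg hx hx1
    rw [hcount, hZ, Finset.sum_insert hθχ, Finset.sum_insert h1χ, Finset.sum_singleton, hσθ,
      S.sign_one, hσ, ha, hb, one'_apply, one'_apply, h, Block.apply_one_eq_charDegree, hf8,
      Block.apply_one_eq_charDegree, hd9] at hfm
    set C := Nat.card (Subgroup.centralizer ({t} : Set G)) with hCdef
    have hfz : (5 : ℤ) * C * C * 72 = 2160 * (72 - 8 * a ^ 2 + 9 * (a - 1) ^ 2) := by
      have : (5 : ℂ) * C * C * 72 = 2160 * (72 - 8 * (a : ℂ) ^ 2 + 9 * ((a : ℂ) - 1) ^ 2) := by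
        push_cast at hfm
        linear_combination 72 * hfm
      exact_mod_cast this
    rcases (show a = 1 ∨ a = -1 by omega) with rfl | rfl
    · have : C * C = 384 := by
        zify; linarith
      have hlt : C < 20 := by nlinarith
      interval_cases C <;> norm_num at this
    · have : C * C = 600 := by
        zify; linarith
      have hlt : C < 25 := by nlinarith
      interval_cases C <;> norm_num at this

/-- Two of the options for five lead to impossible centralizers of elements of order three. -/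
theorem ne_3360 (hG : ¬ IsMulCommutative G) : Nat.card G ≠ 3360 := by
  classical
  intro h
  haveI := Fintype.ofFinite G
  haveI : Fact (Nat.Prime 5) := ⟨by norm_num⟩
  haveI : Fact (Nat.Prime 3) := ⟨by norm_num⟩
  haveI : Fact (Nat.Prime 7) := ⟨by norm_num⟩
  have hnc := OrderFilter.not_isCyclic hG
  obtain ⟨P, e, k, ⟨S⟩, he, hk, hnS, hC, hopt⟩ :=
    option_count (p := 5) hG (by norm_num) h (by norm_num) (by norm_num) (by norm_num) (by norm_num)
  rcases (show ∀ e ∈ List.range 5, ∀ k ∈ List.range (3360 / 5 / 5 + 1),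
    optK 3360 5 (fun _ => true) e k = true → (e = 2 ∧ k = 67) ∨ (e = 4 ∧ k = 4) ∨ (e = 4 ∧ k = 11)
    by decide +kernel) e he k hk hopt with ⟨rfl, rfl⟩ | ⟨rfl, rfl⟩ | ⟨rfl, rfl⟩
  · -- a character of degree sixteen is not in the block
    have hC5 : Nat.card (Subgroup.centralizer ((P : Subgroup G) : Set G)) = 5 := by
      rw [hC]; decide +kernel
    have hm : Nat.card G = 5 * 672 := by rw [h]
    obtain ⟨χ, hχX, -, hX, -, -, h2, h2', hd, hf, hcase, hsq⟩ := S.two_cases hnc hm rfl (by norm_num)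
    obtain ⟨hχd, hθd⟩ : charDegree (χ : G → ℂ) ≤ 6 ∧ charDegree (S.θ : G → ℂ) ≤ 7 := by
      refine (show ∀ d ∈ Nat.divisors 672, 2 ≤ d → ∀ f ∈ Nat.divisors 672, 2 ≤ f →
        (d % 5 = 1 ∧ f = d + 1 ∨ (d + 1) % 5 = 0 ∧ f + 1 = d) →
        1 + d ^ 2 + (5 - 1) / 2 * f ^ 2 ≤ 3360 → d ≤ 6 ∧ f ≤ 7 by decide +kernel)
        _ (Nat.mem_divisors.2 ⟨hd, by norm_num⟩) h2 _ (Nat.mem_divisors.2 ⟨hf, by norm_num⟩) h2' ?_
        (by rwa [h] at hsq)
      rcases hcase with ⟨-, -, a, b⟩ | ⟨-, -, a, b⟩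
      · exact Or.inl ⟨a, b⟩
      · exact Or.inr ⟨a, b⟩
    obtain ⟨P7, e7, k7, ⟨S7⟩, he7, hk7, -, hC7, hopt7⟩ :=
      option_count (p := 7) hG (by norm_num) h (by norm_num) (by norm_num) (by norm_num) (by norm_num)
    obtain ⟨rfl, hcof⟩ := (show ∀ e ∈ List.range 7, ∀ k ∈ List.range (3360 / 7 / 7 + 1),
      optK 3360 7 (fun _ => true) e k = true → e = 2 ∧ cof 3360 7 e k ≠ 1
      by decide +kernel) e7 he7 k7 hk7 hopt7
    have hm7 : Nat.card G = 7 * 480 := by rw [h]
    obtain ⟨χ', hχ'X, hne', -, -, hθ', g2, g2', gd, gf, gcase, gsq⟩ :=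
      S7.two_cases hnc hm7 rfl (by norm_num)
    have hbig : ∀ η ∈ S7.Z, η ≠ one' G → 14 ≤ charDegree (η : G → ℂ) := fun η hη hne => by
      by_contra hlt
      have := S7.small hnc (block_setup_c hm7 (by norm_num)) hη hne (by omega)
      rw [hC7] at this
      exact hcof ((Nat.mul_eq_left (by norm_num)).1 this)
    have hdeg : charDegree (S7.θ : G → ℂ) = 16 := by
      refine (show ∀ d ∈ Nat.divisors 480, 14 ≤ d → ∀ f ∈ Nat.divisors 480, 14 ≤ f →
        (d % 7 = 1 ∧ f = d + 1 ∨ (d + 1) % 7 = 0 ∧ f + 1 = d) →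
        1 + d ^ 2 + (7 - 1) / 2 * f ^ 2 ≤ 3360 → f = 16 by decide +kernel)
        _ (Nat.mem_divisors.2 ⟨gd, by norm_num⟩) (hbig _ (S7.mem_Z.2 (Or.inr hχ'X)) hne')
        _ (Nat.mem_divisors.2 ⟨gf, by norm_num⟩) (hbig _ (S7.mem_Z.2 (Or.inl rfl)) hθ') ?_
        (by rwa [h] at gsq)
      rcases gcase with ⟨-, -, a, b⟩ | ⟨-, -, a, b⟩
      · exact Or.inl ⟨a, b⟩
      · exact Or.inr ⟨a, b⟩
    rcases mem_block_or_dvd S hC5 hm (by norm_num) S7.θ with h' | h' | h'
    · rw [hX] at h'
      rcases Finset.mem_insert.1 h' with e' | e'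
      · rw [e', charDegree_one'] at hdeg; norm_num at hdeg
      · rw [Finset.mem_singleton.1 e'] at hdeg; omega
    · have h1 := S.agree _ h' 1 (by rw [orderOf_one]; norm_num)
      rw [Block.apply_one_eq_charDegree, Block.apply_one_eq_charDegree, Nat.cast_inj] at h1
      omega
    · rw [hdeg] at h'; norm_num at h'
  · exact Cfsg.Agent.S1010.result hnS
  · -- the subgroup of order three centralizing the Sylow five-subgroup
    have hC15 : Nat.card (Subgroup.centralizer ((P : Subgroup G) : Set G)) = 15 := by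
      rw [hC]; decide +kernel
    have hNP : Nat.card (Subgroup.normalizer ((P : Subgroup G) : Set G)) = 60 :=
      normalizer_card P h hnS (by norm_num)
    set C5 := Subgroup.centralizer ((P : Subgroup G) : Set G) with hC5def
    obtain ⟨⟨y, hyC⟩, hyo⟩ := exists_prime_orderOf_dvd_card' (G := C5) 3 (by rw [hC15]; norm_num)
    rw [Subgroup.orderOf_mk] at hyo
    obtain ⟨P3, e3, k3, ⟨S3⟩, he3, hk3, hn3, hC3, hopt3⟩ :=
      option_count (p := 3) hG (by norm_num) h (by norm_num) (by norm_num) (by norm_num) (by norm_num)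
    obtain ⟨Q, hQ⟩ := exists_sylow_eq_zpowers (G := G) (p := 3) (fun Q => by
      rw [Q.card_eq_multiplicity, ← P3.card_eq_multiplicity, S3.card_P]) hyo
    have hQP : (Q : Subgroup G) ≤ C5 := by rw [hQ, Subgroup.zpowers_le]; exact hyC
    have hNle : Subgroup.normalizer ((P : Subgroup G) : Set G) ≤
        Subgroup.normalizer ((Q : Subgroup G) : Set G) := by
      refine (normalizer_le_normalizer_centralizer _).trans (normalizer_le_of_unique Q hQP ?_)
      obtain ⟨hd, hmod⟩ := sylow_facts (G := C5) (p := 3) 1 5 (by rw [hC15]; norm_num) (by norm_num)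
      have := Nat.le_of_dvd (by norm_num) hd
      generalize Nat.card (Sylow 3 C5) = d at hd hmod this ⊢
      interval_cases d <;> first | omega | norm_num at hd
    have hcard : Nat.card (Subgroup.centralizer ((Q : Subgroup G) : Set G)) = 3 * cof 3360 3 e3 k3 := by
      rw [← hC3]
      obtain ⟨g, hg⟩ := MulAction.exists_smul_eq G Q P3
      rw [← hg]
      refine Nat.card_congr ((MulAut.conj g).toEquiv.subtypeEquiv fun z => ?_)
      simp only [Subgroup.mem_centralizer_iff]
      constructor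
      · rintro hz _ ⟨a, ha, rfl⟩
        show g * a * g⁻¹ * (g * z * g⁻¹) = g * z * g⁻¹ * (g * a * g⁻¹)
        rw [conj_mul, conj_mul, hz a ha]
      · intro hz a ha
        have h1 : g * a * g⁻¹ * (g * z * g⁻¹) = g * z * g⁻¹ * (g * a * g⁻¹) :=
          hz _ (Subgroup.smul_mem_pointwise_smul a (MulAut.conj g) _ ha)
        rw [conj_mul, conj_mul] at h1
        exact mul_left_cancel (mul_right_cancel h1)
    have hPC3 : (P : Subgroup G) ≤ Subgroup.centralizer ((Q : Subgroup G) : Set G) := fun a ha =>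
      Subgroup.mem_centralizer_iff.2 fun b hb =>
        ((Subgroup.mem_centralizer_iff.1 (hQP hb)) a ha).symm
    have h5 : 5 ∣ Nat.card (Subgroup.centralizer ((Q : Subgroup G) : Set G)) :=
      S.card_P ▸ Subgroup.card_dvd_of_le hPC3
    rw [hcard] at h5
    have hN3 : Nat.card (Subgroup.normalizer ((Q : Subgroup G) : Set G)) * (k3 * 3 + 1) = 3360 := by
      rw [mul_comm, ← hn3, ← h]; exact card_normalizer_mul Q
    rcases (show ∀ e ∈ List.range 3, ∀ k ∈ List.range (3360 / 3 / 3 + 1),
      optK 3360 3 (fun _ => true) e k = true → 5 ∣ 3 * cof 3360 3 e k →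
      k = 5 ∨ k = 37 ∨ (k = 9 ∧ 3 * cof 3360 3 e k = 60)
      by decide +kernel) e3 he3 k3 hk3 hopt3 h5 with rfl | rfl | ⟨rfl, hc60⟩
    · have := Subgroup.card_dvd_of_le hNle
      rw [hNP, show Nat.card (Subgroup.normalizer ((Q : Subgroup G) : Set G)) = 210 by omega] at this
      norm_num at this
    · have := Subgroup.card_dvd_of_le hNle
      rw [hNP, show Nat.card (Subgroup.normalizer ((Q : Subgroup G) : Set G)) = 30 by omega] at this
      norm_num at this
    · rw [hc60] at hcard
      set C3 := Subgroup.centralizer ((Q : Subgroup G) : Set G) with hC3def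
      obtain ⟨hd, hmod⟩ := sylow_facts (G := C3) (p := 5) 1 12 (by rw [hcard]; norm_num) (by norm_num)
      have hn5 : Nat.card (Sylow 5 C3) = 1 := by
        by_contra hne
        have h6 : Nat.card (Sylow 5 C3) = 6 := by
          have := Nat.le_of_dvd (by norm_num) hd
          generalize Nat.card (Sylow 5 C3) = d at hd hmod this hne ⊢
          interval_cases d <;> first | omega | norm_num at hd
        have hN' : Nat.card (Subgroup.normalizer (((P.subtype hPC3 : Sylow 5 C3) : Subgroup C3) : Set C3)) = 10 :=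
          normalizer_card _ hcard h6 (by norm_num)
        have hQ' : (Q : Subgroup G) ≤ C3 := fun a ha => Subgroup.mem_centralizer_iff.2 fun b hb =>
          congrArg Subtype.val (by
            haveI : IsCyclic (Q : Subgroup G) := by rw [hQ]; infer_instance
            exact (IsCyclic.commutative (α := (Q : Subgroup G))).is_comm.comm ⟨b, hb⟩ ⟨a, ha⟩)
        have hle : (Q : Subgroup G).subgroupOf C3 ≤ Subgroup.centralizer
            (((P.subtype hPC3 : Sylow 5 C3) : Subgroup C3) : Set C3) := fun a ha =>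
          Subgroup.mem_centralizer_iff.2 fun b _ => Subtype.ext
            ((Subgroup.mem_centralizer_iff.1 b.2 (a : G) ha).symm)
        have h3 := Subgroup.card_dvd_of_le (hle.trans (Subgroup.centralizer_le_normalizer _))
        rw [hN', Nat.card_congr (Subgroup.subgroupOfEquivOfLe hQ').toEquiv,
          show Nat.card (Q : Subgroup G) = 3 by rw [hQ, Nat.card_zpowers, hyo]] at h3
        norm_num at h3
      have := Subgroup.card_dvd_of_le
        ((normalizer_le_normalizer_centralizer _).trans (normalizer_le_of_unique P hPC3 hn5))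
      rw [hNP, show Nat.card (Subgroup.normalizer ((Q : Subgroup G) : Set G)) = 120 by omega] at this
      norm_num at this

/-- The centralizer of order three hundred of an element of order five. -/
theorem ne_3600 (hG : ¬ IsMulCommutative G) : Nat.card G ≠ 3600 := by
  classical
  intro h
  haveI : Fact (Nat.Prime 5) := ⟨by norm_num⟩
  have hm : Nat.card G = 5 ^ 2 * 144 := by rw [h]; norm_num
  obtain ⟨k, hk0, hkd, hk, hF⟩ := exists_index hG hm (by norm_num) two_ne_zero
  rw [h] at hF
  have hn5 : Nat.card (Sylow 5 G) = 16 ∨ Nat.card (Sylow 5 G) = 36 := by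
    rw [hk]
    exact (show ∀ d ∈ Nat.divisors 144, d % 5 = 1 → d ≠ 1 → F d 3600 = true → d = 16 ∨ d = 36
      by decide +kernel) _ (Nat.mem_divisors.2 ⟨hkd, by norm_num⟩) (by omega) (by omega) hF
  have hn1 : Nat.card (Sylow 5 G) % (5 * 5) ≠ 1 := by omega
  obtain ⟨P, Q, R, s, hPQ, hRdef, hRc, hRP, hPN, hQN, hNc, hsm, hdiv, htop, hidx⟩ :=
    inter_data hG (le_refl 2) hm (by norm_num) hn1
  set N := Subgroup.normalizer (R : Set G) with hNdef
  have hcS : ∀ T : Sylow 5 G, Nat.card (T : Subgroup G) = 25 := fun T => by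
    rw [card_sylow 2 144 hm (by norm_num) T]; norm_num
  have hne := Order5400.card_ne hPQ (hcS P) hPN hQN
  have hF' := F_sound hG htop
  rw [hidx, h] at hF'
  have hs : s = 12 := ((show ∀ s ∈ Nat.divisors 144, hasDiv 5 s = true → 144 / s ≠ 1 →
      F (144 / s) 3600 = true → s = 6 ∨ s = 12 by decide +kernel) s
    (Nat.mem_divisors.2 ⟨hsm, by norm_num⟩) hdiv
    (fun e => htop (Subgroup.index_eq_one.1 (hidx.trans e))) hF').resolve_left
      fun e => hne.1 (by rw [hNc, e]; norm_num)
  have hN300 : Nat.card N = 300 := by rw [hNc, hs]; norm_num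
  have hRc' : Nat.card R = 5 := by rw [hRc]; norm_num
  obtain ⟨⟨x, hxR⟩, hx1'⟩ := Subgroup.ne_bot_iff_exists_ne_one.1
    (fun e : R = ⊥ => by rw [e, Subgroup.card_bot] at hRc'; norm_num at hRc')
  have hx1 : x ≠ 1 := fun e => hx1' (Subtype.ext e)
  have hzx : Subgroup.zpowers x = R := zpowers_eq_of_prime_card hRc' hxR hx1
  have hab : ∀ T : Sylow 5 G, ∀ a ∈ (T : Subgroup G), ∀ b ∈ (T : Subgroup G), Commute a b := by
    intro T a ha b hb
    haveI : IsMulCommutative (T : Subgroup G) :=
      IsPGroup.isMulCommutative_of_card_eq_prime_sq (p := 5) (by rw [hcS]; norm_num)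
    exact congrArg Subtype.val
      ((inferInstance : IsMulCommutative (T : Subgroup G)).is_comm.comm ⟨a, ha⟩ ⟨b, hb⟩)
  set C := Subgroup.centralizer ({x} : Set G) with hC
  have hCN : C ≤ N := fun c hc => Subgroup.centralizer_le_normalizer _ (by
    rw [← hzx, centralizer_zpowers]; exact hc)
  have hPC : (P : Subgroup G) ≤ C := fun a ha =>
    Subgroup.mem_centralizer_singleton_iff.2 (hab P a ha x (hRP hxR)).eq
  have hQC : (Q : Subgroup G) ≤ C := fun a ha => Subgroup.mem_centralizer_singleton_iff.2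
    (hab Q a ha x ((hRdef ▸ inf_le_right : R ≤ (Q : Subgroup G)) hxR)).eq
  obtain ⟨c, hc⟩ : 25 ∣ Nat.card C := hcS P ▸ Subgroup.card_dvd_of_le hPC
  have hc12 : c ∣ 12 := (Nat.mul_dvd_mul_iff_left (by norm_num : 0 < 25)).1
    (by rw [← hc]; exact (Subgroup.card_dvd_of_le hCN).trans (dvd_of_eq hN300))
  obtain ⟨hd5, hmod5⟩ := sylow_facts (G := C) (p := 5) 2 c (by rw [hc]; norm_num) (fun h5 => by
    have := h5.trans hc12; norm_num at this)
  have hne1 : Nat.card (Sylow 5 C) ≠ 1 := fun h1 => by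
    haveI : Subsingleton (Sylow 5 C) := Finite.card_le_one_iff_subsingleton.1 h1.le
    have h := congrArg (fun T : Sylow 5 C => (T : Subgroup C))
      (Subsingleton.elim (P.subtype hPC) (Q.subtype hQC))
    simp only [Sylow.coe_subtype, Subgroup.subgroupOf_inj, inf_eq_left.2 hPC, inf_eq_left.2 hQC] at h
    exact hPQ (Sylow.ext h)
  have hne6 : c ≠ 6 := fun e => (Order5400.card_ne hPQ (hcS P) hPC hQC).1 (by rw [hc, e])
  obtain ⟨rfl, hnC⟩ : c = 12 ∧ Nat.card (Sylow 5 C) = 6 :=
    (show ∀ c ∈ Nat.divisors 12, c ≠ 6 → ∀ d ∈ Nat.divisors c, d % 5 = 1 → d ≠ 1 → c = 12 ∧ d = 6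
      by decide +kernel) c (Nat.mem_divisors.2 ⟨hc12, by norm_num⟩) hne6 _
      (Nat.mem_divisors.2 ⟨hd5, fun e => by rw [e, mul_zero] at hc; exact Nat.card_pos.ne' hc⟩) hmod5 hne1
  have hC300 : Nat.card C = 300 := by rw [hc]
  have hCeq : C = N := Subgroup.eq_of_le_of_card_ge hCN (by rw [hC300, hN300])
  set P' := P.subtype hPC with hP'
  have hK : Nat.card (Subgroup.normalizer ((P' : Subgroup C) : Set C)) = 50 :=
    normalizer_card P' hC300 hnC (by norm_num)
  set NP := Subgroup.normalizer ((P : Subgroup G) : Set G) with hNP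
  set K := C.subgroupOf NP with hKdef
  have hKc : Nat.card K = 50 := by
    rw [← hK, hP', Sylow.coe_subtype, ← Subgroup.subgroupOf_normalizer_eq hPC, ← hNP, hKdef]
    exact Nat.card_congr ⟨fun a => ⟨⟨a.1.1, a.2⟩, a.1.2⟩, fun a => ⟨⟨a.1.1, a.2⟩, a.1.2⟩,
      fun _ => rfl, fun _ => rfl⟩
  have hNP100 : Nat.card NP = 100 := by
    rcases hn5 with e | e
    · exfalso
      have h2 := K.card_subgroup_dvd_card
      rw [hKc, normalizer_card P h e (N := 225) (by norm_num)] at h2
      norm_num at h2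
    · exact normalizer_card P h e (by norm_num)
  have hK2 : K.index = 2 := by
    have := K.index_mul_card
    rw [hKc, hNP100] at this
    omega
  haveI : K.Normal := Subgroup.normal_of_index_eq_two hK2
  by_cases hle : Subgroup.normalizer ((P' : Subgroup C) : Set C) ≤
      Subgroup.centralizer ((P' : Subgroup C) : Set C)
  · -- a normal complement of order twelve in the centralizer
    set M := (MonoidHom.transferSylow P' hle).ker with hMdef
    have hPc : Nat.card (P' : Subgroup C) = 25 := by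
      rw [hP', Sylow.coe_subtype, Nat.card_congr (Subgroup.subgroupOfEquivOfLe hPC).toEquiv, hcS]
    have hMc : Nat.card M = 12 := by
      have := (MonoidHom.ker_transferSylow_isComplement' P' hle).card_mul
      rw [hPc, hC300, ← hMdef] at this
      omega
    haveI : Fact (Nat.Prime 3) := ⟨by norm_num⟩
    -- the Sylow five-subgroup fixes a Sylow three-subgroup of the complement
    obtain ⟨U⟩ : Nonempty (Sylow 3 M) := inferInstance
    set U' := (U : Subgroup M).map M.subtype with hU'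
    have hUc : Nat.card U' = 3 := by
      rw [hU', Subgroup.card_map_of_injective M.subtype_injective,
        card_sylow 1 4 (by rw [hMc]; norm_num) (by norm_num) U, pow_one]
    have hUn : M ≤ ⊤ := le_top
    haveI : M.Normal := MonoidHom.normal_ker _
    have hsup : Subgroup.normalizer (U' : Set C) ⊔ M = ⊤ := by
      rw [hU']; exact Sylow.normalizer_sup_eq_top U
    have hNU : 25 ∣ Nat.card (Subgroup.normalizer (U' : Set C)) := by
      have h3 := Subgroup.relIndex_dvd_card M (Subgroup.normalizer (U' : Set C))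
      rw [← Subgroup.relIndex_sup_right, hsup, Subgroup.relIndex_top_right] at h3
      have h4 := M.index_mul_card
      rw [hMc, hC300] at h4
      rwa [show M.index = 25 by omega] at h3
    obtain ⟨T, hT⟩ := Sylow.exists_subgroup_card_pow_prime 5 (G := Subgroup.normalizer (U' : Set C))
      (n := 2) hNU
    set T' := T.map (Subgroup.normalizer (U' : Set C)).subtype with hT'
    have hT'c : Nat.card T' = 25 := by
      rw [hT', Subgroup.card_map_of_injective (Subgroup.subtype_injective _), hT]; norm_num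
    obtain ⟨P₂, hP₂⟩ := (IsPGroup.of_card (p := 5) (n := 2) hT'c).exists_le_sylow
    have hP₂T : T' = (P₂ : Subgroup C) := Subgroup.eq_of_le_of_card_ge hP₂ (by
      rw [card_sylow 2 12 (by rw [hC300]; norm_num) (by norm_num) P₂, hT'c]; norm_num)
    -- it centralizes that subgroup
    have hcent : U' ≤ Subgroup.centralizer ((P₂ : Subgroup C) : Set C) := by
      rw [← hP₂T, Subgroup.le_centralizer_iff]
      intro a ha
      have ha' : a ∈ Subgroup.normalizer (U' : Set C) := by
        obtain ⟨b, -, rfl⟩ := ha; exact b.2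
      have hrel := relIndex_centralizer_dvd (G := C) U' hUc
      have h2 := Subgroup.card_mul_index ((Subgroup.centralizer (U' : Set C)).subgroupOf
        (Subgroup.normalizer (U' : Set C)))
      have hfin : orderOf (QuotientGroup.mk (s := (Subgroup.centralizer (U' : Set C)).subgroupOf
          (Subgroup.normalizer (U' : Set C))) ⟨a, ha'⟩) ∣ Nat.gcd 25 2 := by
        refine Nat.dvd_gcd ?_ ?_
        · refine (orderOf_map_dvd (QuotientGroup.mk' _) (⟨a, ha'⟩ : Subgroup.normalizer (U' : Set C))).trans ?_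
          rw [Subgroup.orderOf_mk]
          exact hT'c ▸ Subgroup.orderOf_dvd_natCard _ ha
        · exact (_root_.orderOf_dvd_natCard _).trans hrel
      rw [show Nat.gcd 25 2 = 1 by norm_num, Nat.dvd_one, orderOf_eq_one_iff, QuotientGroup.eq_one_iff,
        Subgroup.mem_subgroupOf] at hfin
      exact hfin
    have hdvd := Subgroup.card_dvd_of_le (hcent.trans (Subgroup.centralizer_le_normalizer _))
    rw [hUc, normalizer_card P₂ hC300 hnC (N := 50) (by norm_num)] at hdvd
    norm_num at hdvd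
  · -- the normalizer of the Sylow subgroup fixes the subgroup of order five
    have hsub : NP ≤ N := by
      intro g hg
      refine Subgroup.mem_normalizer_fintype fun y hy => ?_
      rw [SetLike.mem_coe, ← hzx] at hy
      obtain ⟨i, rfl⟩ := hy
      show g * x ^ i * g⁻¹ ∈ R
      rw [← conj_zpow]
      refine R.zpow_mem ?_ i
      by_contra hgR
      apply hle
      have hgP : g * x * g⁻¹ ∈ (P : Subgroup G) :=
        (Subgroup.mem_normalizer_iff.1 hg x).1 (hRP hxR)
      set H := Subgroup.closure ({x, g * x * g⁻¹} : Set G) with hH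
      have hHP : H ≤ (P : Subgroup G) := (Subgroup.closure_le _).2 (by
        rintro z (rfl | rfl); exacts [hRP hxR, hgP])
      have hRH : R ≤ H := by
        rw [← hzx, Subgroup.zpowers_le]; exact Subgroup.subset_closure (Or.inl rfl)
      have hHeq : H = (P : Subgroup G) := by
        refine Subgroup.eq_of_le_of_card_ge hHP ?_
        rw [hcS]
        obtain ⟨i, hi, hie⟩ := (Nat.dvd_prime_pow (by norm_num : Nat.Prime 5)).1
          (show Nat.card H ∣ 5 ^ 2 by
            rw [show (5 : ℕ) ^ 2 = 25 by norm_num, ← hcS P]; exact Subgroup.card_dvd_of_le hHP)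
        have h5 : 5 ∣ Nat.card H := hRc' ▸ Subgroup.card_dvd_of_le hRH
        interval_cases i
        · rw [hie] at h5; norm_num at h5
        · exfalso
          have he : R = H := Subgroup.eq_of_le_of_card_ge hRH (by rw [hie, hRc']; norm_num)
          exact hgR (he ▸ Subgroup.subset_closure (Or.inr rfl))
        · rw [hie]; norm_num
      intro a ha
      have ha' : (a : G) ∈ NP := by
        rw [hP', Sylow.coe_subtype, ← Subgroup.subgroupOf_normalizer_eq hPC] at ha
        exact ha
      have haK : (⟨a, ha'⟩ : NP) ∈ K := a.2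
      have hga := ‹K.Normal›.conj_mem _ haK (⟨g, hg⟩⁻¹ : NP)
      have hga' : g⁻¹ * (a : G) * g ∈ C := by
        have := Subgroup.mem_subgroupOf.1 hga
        simpa using this
      replace hga' : g⁻¹ * (a : G) * g * x = x * (g⁻¹ * (a : G) * g) := Subgroup.mem_centralizer_singleton_iff.1 hga'
      have hgc : Commute (a : G) (g * x * g⁻¹) := by
        show (a : G) * (g * x * g⁻¹) = g * x * g⁻¹ * (a : G)
        calc (a : G) * (g * x * g⁻¹) = g * (g⁻¹ * (a : G) * g * x) * g⁻¹ := by group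
          _ = g * (x * (g⁻¹ * (a : G) * g)) * g⁻¹ := by rw [hga']
          _ = g * x * g⁻¹ * (a : G) := by group
      have hall : H ≤ Subgroup.centralizer ({(a : G)} : Set G) := (Subgroup.closure_le _).2 (by
        rintro z (rfl | rfl)
        · exact Subgroup.mem_centralizer_singleton_iff.2
            (Subgroup.mem_centralizer_singleton_iff.1 a.2).symm
        · exact Subgroup.mem_centralizer_singleton_iff.2 hgc.eq.symm)
      refine Subgroup.mem_centralizer_iff.2 fun b hb => ?_
      have hb' : (b : G) ∈ H := by rw [hHeq]; exact hb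
      exact Subtype.ext (Subgroup.mem_centralizer_singleton_iff.1 (hall hb'))
    have := Subgroup.card_dvd_of_le hsub
    have h2 : K = ⊤ := by
      rw [eq_top_iff]
      rintro ⟨a, ha⟩ -
      exact Subgroup.mem_subgroupOf.2 (hCeq ▸ hsub ha)
    rw [h2, Subgroup.card_top, hNP100] at hKc
    norm_num at hKc

end Cfsg.Lib.Small.Gap
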