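import Cfsg.Agent.Lib.Small.Gap.GraphSixty

/-!
# The degree graph forces simplicity at the orders of small simple groups
-/

set_option autoImplicit false
set_option linter.unusedSectionVars false
set_option linter.style.haveILetI false

namespace Cfsg.Lib.Small.Gap

open Cfsg Cfsg.Lib Cfsg.Lib.Small

universe u

variable {G : Type u} [Group G] [Fintype G]

/-- A character not fixed by the powers of a linear character has several twists. -/
theorem twist_bound {k : ℕ} (hk : k.Prime) (lam : G →* ℂˣ) (hlam : orderOf lam = k)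
    (χ η : IrrCharacter G) (hχ : ¬ k ∣ charDegree (χ : G → ℂ))
    (hne : charDegree (η : G → ℂ) ≠ charDegree (χ : G → ℂ)) :
    k * charDegree (χ : G → ℂ) ^ 2 + charDegree (η : G → ℂ) ^ 2 ≤ Nat.card G := by
  classical
  let tw : Fin k → IrrCharacter G := fun i =>
    ⟨_, Char.isIrrCharacter_mul_linear χ.2 (lam ^ (i : ℕ))⟩
  have hdeg : ∀ i, charDegree (tw i : G → ℂ) = charDegree (χ : G → ℂ) := fun i => by
    refine Block.charDegree_eq_of_apply_one ?_
    show (χ : G → ℂ) 1 * (((lam ^ (i : ℕ)) (1 : G) : ℂˣ) : ℂ) = _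
    rw [map_one, Units.val_one, mul_one, χ.2.apply_one_eq_charDegree]
  have hinj : Function.Injective tw := by
    intro i j h
    by_contra hne'
    apply hχ
    set μ := lam ^ (i : ℕ) * (lam ^ (j : ℕ))⁻¹ with hμ
    have hμ1 : μ ≠ 1 := fun h1 => hne' (Fin.ext (pow_injOn_Iio_orderOf
      (by rw [Set.mem_Iio, hlam]; exact i.2) (by rw [Set.mem_Iio, hlam]; exact j.2)
      (mul_inv_eq_one.1 h1)))
    have hμk : μ ^ k = 1 := by
      have hl : lam ^ k = 1 := by rw [← hlam, pow_orderOf_eq_one]
      refine MonoidHom.ext fun g => ?_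
      have hg : lam g ^ k = 1 := by simpa using DFunLike.congr_fun hl g
      simp only [hμ, MonoidHom.pow_apply, MonoidHom.mul_apply, MonoidHom.inv_apply, MonoidHom.one_apply]
      rw [mul_pow, inv_pow, ← pow_mul, ← pow_mul, mul_comm (i : ℕ), mul_comm (j : ℕ), pow_mul,
        pow_mul, hg, one_pow, one_pow, inv_one, mul_one]
    obtain ⟨g, hg⟩ : ∃ g, μ g ≠ 1 := by
      by_contra hall
      push Not at hall
      exact hμ1 (MonoidHom.ext hall)
    refine prime_dvd_of_twist hk μ hg ?_ χ fun x => ?_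
    · have h2 := DFunLike.congr_fun hμk g
      simpa using h2
    · have h3 : (χ : G → ℂ) x * (((lam ^ (i : ℕ)) x : ℂˣ) : ℂ) =
          (χ : G → ℂ) x * (((lam ^ (j : ℕ)) x : ℂˣ) : ℂ) := congrFun (congrArg Subtype.val h) x
      have hj0 : (((lam ^ (j : ℕ)) x : ℂˣ) : ℂ) ≠ 0 := Units.ne_zero _
      rw [hμ, MonoidHom.mul_apply, MonoidHom.inv_apply, Units.val_mul, Units.val_inv_eq_inv_val,
        mul_comm, ← mul_assoc, h3, mul_assoc, mul_inv_cancel₀ hj0, mul_one]
  have hnot : η ∉ Finset.univ.image tw := fun h => by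
    obtain ⟨i, -, rfl⟩ := Finset.mem_image.1 h
    exact hne (hdeg i)
  have h := Finset.sum_le_sum_of_subset (f := fun χ : IrrCharacter G => charDegree (χ : G → ℂ) ^ 2)
    (Finset.subset_univ (insert η (Finset.univ.image tw)))
  rw [sum_sq_charDegree, Finset.sum_insert hnot, Finset.sum_image fun a _ b _ h => hinj h,
    Finset.sum_congr rfl fun i _ => by rw [hdeg i], Finset.sum_const, Finset.card_univ,
    Fintype.card_fin, smul_eq_mul, add_comm] at h
  exact h

/-- A prime with a normal Sylow subgroup of that order inside a normal subgroup. -/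
theorem false_of_normal_sylow {r : ℕ} (hr : r.Prime) (hr2 : ¬ r ^ 2 ∣ Nat.card G) {M : Subgroup G}
    [M.Normal] {m : ℕ} (hm : Nat.card M = r * m) (hm0 : m ≠ 0)
    (honly : ∀ d ∈ m.divisors, d % r = 1 → d = 1)
    (hprimes : ∀ p : ℕ, p.Prime → p ∣ Nat.card G → p ∈ degreePrimes G) : False := by
  classical
  haveI := Fact.mk hr
  have hrm : ¬ r ∣ m := fun h => hr2 (by
    rw [sq]; exact (mul_dvd_mul_left r h).trans (hm ▸ M.card_subgroup_dvd_card))
  obtain ⟨P⟩ : Nonempty (Sylow r M) := inferInstance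
  have hP : Nat.card (P : Subgroup M) = r := by
    rw [P.card_eq_multiplicity, hm, Nat.factorization_mul hr.ne_zero hm0, Finsupp.add_apply,
      hr.factorization_self, Nat.factorization_eq_zero_of_not_dvd hrm, pow_one]
  have hidx : (P : Subgroup M).index = m := by
    have h := (P : Subgroup M).card_mul_index
    rw [hP, hm] at h
    exact Nat.eq_of_mul_eq_mul_left hr.pos h
  have h1 : Nat.card (Sylow r M) = 1 := honly _
    (Nat.mem_divisors.2 ⟨hidx ▸ P.card_dvd_index, hm0⟩) (Eq.trans
      (show Nat.card (Sylow r M) % r = 1 % r from card_sylow_modEq_one r M) (Nat.mod_eq_of_lt hr.one_lt))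
  haveI : Subsingleton (Sylow r M) := (Nat.card_eq_one_iff_unique.1 h1).1
  haveI : (P : Subgroup M).Characteristic := P.characteristic_of_subsingleton
  set L := (P : Subgroup M).map M.subtype with hL
  haveI : L.Normal := inferInstance
  have hLc : Nat.card L = r := by rw [hL, Core.card_map_subtype, hP]
  haveI : IsCyclic L := isCyclic_of_prime_card hLc
  refine notMem_degreePrimes hr (inferInstance : L.Normal) (fun a ha b hb => ?_) (fun hd => ?_)
    (hprimes r hr ((dvd_mul_right r m).trans (hm ▸ M.card_subgroup_dvd_card)))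
  · letI : CommGroup L := IsCyclic.commGroup
    exact congrArg Subtype.val (mul_comm (⟨a, ha⟩ : L) ⟨b, hb⟩)
  · refine hr2 ?_
    rw [sq, ← L.card_mul_index, hLc]
    exact Nat.mul_dvd_mul_left r hd

/-- The graph at order 2520 forces a perfect group. -/
theorem perfect_2520 (hG : Nat.card G = 2520) (h57 : (degreeGraph G).Adj 5 7)
    (h37 : (degreeGraph G).Adj 3 7) (h35 : (degreeGraph G).Adj 3 5) : commutator G = ⊤ := by
  classical
  by_contra hne
  have hidx : (commutator G).index ≠ 1 := fun h => hne (Subgroup.index_eq_one.1 h)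
  obtain ⟨k, hk, hkd⟩ := Nat.exists_prime_and_dvd hidx
  haveI := Fact.mk hk
  have hcard := Char.card_linear_eq_index (G := G)
  haveI : Finite (G →* ℂˣ) := Nat.finite_of_card_ne_zero (by
    rw [hcard]; exact Subgroup.index_ne_zero_of_finite)
  obtain ⟨lam, hlam⟩ := exists_prime_orderOf_dvd_card' k (hcard ▸ hkd)
  obtain ⟨-, -, -, _, ⟨a, rfl⟩, ha⟩ := h57
  obtain ⟨-, -, -, _, ⟨b, rfl⟩, hb⟩ := h37
  obtain ⟨-, -, -, _, ⟨c, rfl⟩, hc⟩ := h35
  have hbd : ∀ χ : IrrCharacter G, charDegree (χ : G → ℂ) ∣ 2520 ∧ charDegree (χ : G → ℂ) ^ 2 ≤ 2520 :=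
    fun χ => ⟨hG ▸ Char.charDegree_dvd_card χ.2, by
      rw [← hG, ← sum_sq_charDegree]
      exact Finset.single_le_sum (f := fun χ : IrrCharacter G => charDegree (χ : G → ℂ) ^ 2)
        (fun _ _ => Nat.zero_le _) (Finset.mem_univ χ)⟩
  have key : ∀ χ : IrrCharacter G, charDegree (χ : G → ℂ) ≤ 50 := fun χ => by
    have := (hbd χ).2
    nlinarith
  have ha' : charDegree (a : G → ℂ) = 35 := by
    have := key a; have := a.2.charDegree_pos; omega
  have hb' : charDegree (b : G → ℂ) = 21 ∨ charDegree (b : G → ℂ) = 42 := by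
    have := key b; have := b.2.charDegree_pos; omega
  have hc' : charDegree (c : G → ℂ) = 15 ∨ charDegree (c : G → ℂ) = 30 ∨
      charDegree (c : G → ℂ) = 45 := by
    have := key c; have := c.2.charDegree_pos; omega
  have hk' : k = 2 ∨ k = 3 ∨ k = 5 ∨ k = 7 := by
    have h1 : k ∣ 2520 := hkd.trans (hG ▸ (commutator G).index_dvd_card)
    have h2 := Nat.mem_primeFactors.2 ⟨hk, h1, by norm_num⟩
    revert h2
    have : Nat.primeFactors 2520 = {2, 3, 5, 7} := by decide +kernel
    rw [this]
    simp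
  rcases hk' with rfl | rfl | rfl | rfl
  · have h := twist_bound hk lam hlam a b (by rw [ha']; norm_num) (by rw [ha']; omega)
    rw [ha', hG] at h
    rcases hb' with hb' | hb' <;> rw [hb'] at h <;> omega
  · have h := twist_bound hk lam hlam a b (by rw [ha']; norm_num) (by rw [ha']; omega)
    rw [ha', hG] at h
    omega
  · have h := twist_bound hk lam hlam b a (by omega) (by rw [ha']; omega)
    rw [ha', hG] at h
    rcases hb' with hb' | hb' <;> rw [hb'] at h <;> omega
  · have h := twist_bound hk lam hlam c a (by omega) (by rw [ha']; omega)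
    rw [ha', hG] at h
    rcases hc' with hc' | hc' | hc' <;> rw [hc'] at h <;> omega

/-- The graph at order 2520 forces simplicity. -/
theorem isSimple_2520 (hG : Nat.card G = 2520)
    (hprimes : ∀ p : ℕ, p.Prime → p ∣ Nat.card G → p ∈ degreePrimes G)
    (h57 : (degreeGraph G).Adj 5 7) (h37 : (degreeGraph G).Adj 3 7)
    (h35 : (degreeGraph G).Adj 3 5) : IsSimpleGroup G := by
  classical
  have hperf := perfect_2520 hG h57 h37 h35
  haveI : Nontrivial G := Finite.one_lt_card_iff_nontrivial.1 (by omega)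
  set s : Set (Subgroup G) := {K | K.Normal ∧ K ≠ ⊤}
  obtain ⟨M, ⟨hMn, hMt⟩, hmax⟩ := (Set.toFinite s).exists_maximal
    ⟨⊥, ⟨inferInstance, bot_ne_top⟩⟩
  haveI := hMn
  haveI : Nontrivial (G ⧸ M) := (QuotientGroup.nontrivial_iff).2 hMt
  haveI : IsSimpleGroup (G ⧸ M) := ⟨fun K hK => by
    by_cases h : K.comap (QuotientGroup.mk' M) = ⊤
    · right
      rw [← Subgroup.map_comap_eq_self_of_surjective (QuotientGroup.mk'_surjective M) K, h,
        Subgroup.map_top_of_surjective _ (QuotientGroup.mk'_surjective M)]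
    · left
      have hle := hmax (show K.comap (QuotientGroup.mk' M) ∈ s from ⟨hK.comap _, h⟩)
        ((QuotientGroup.ker_mk' M).symm.le.trans (Subgroup.ker_le_comap _ _))
      rw [← Subgroup.map_comap_eq_self_of_surjective (QuotientGroup.mk'_surjective M) K,
        Subgroup.map_eq_bot_iff, QuotientGroup.ker_mk']
      exact hle⟩
  have hnc : ¬ IsMulCommutative (G ⧸ M) := fun h => hMt (by
    rw [eq_top_iff, ← hperf, commutator_def, Subgroup.commutator_le]
    intro x _ y _
    rw [← QuotientGroup.eq_one_iff, commutatorElement_def, QuotientGroup.mk_mul, QuotientGroup.mk_mul,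
      QuotientGroup.mk_mul, QuotientGroup.mk_inv, QuotientGroup.mk_inv, h.is_comm.comm (x : G ⧸ M), mul_inv_cancel_right,
      mul_inv_cancel])
  have hmul := Subgroup.card_eq_card_quotient_mul_card_subgroup M
  rw [hG] at hmul
  have hmem := mem_orders (S := G ⧸ M) hnc (by
    have := Nat.le_of_dvd (by norm_num) (Dvd.intro (Nat.card M) hmul.symm); omega)
  generalize hs : Nat.card (G ⧸ M) = t at hmul hmem
  simp only [orders, List.mem_cons, List.not_mem_nil, or_false] at hmem
  rcases hmem with rfl | rfl | rfl | rfl | rfl | rfl | rfl | rfl | rfl | rfl | rfl <;> try omega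
  · exact (false_of_normal_sylow (r := 7) (M := M) (m := 6) (by norm_num) (by rw [hG]; norm_num)
      (by omega) (by norm_num) (by decide) hprimes).elim
  · exact (false_of_normal_sylow (r := 5) (M := M) (m := 3) (by norm_num) (by rw [hG]; norm_num)
      (by omega) (by norm_num) (by decide) hprimes).elim
  · exact (false_of_normal_sylow (r := 7) (M := M) (m := 1) (by norm_num) (by rw [hG]; norm_num)
      (by omega) (by norm_num) (by decide) hprimes).elim
  · exact (false_of_normal_sylow (r := 5) (M := M) (m := 1) (by norm_num) (by rw [hG]; norm_num)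
      (by omega) (by norm_num) (by decide) hprimes).elim
  · have hM : M = ⊥ := Subgroup.eq_bot_of_card_eq M (by omega)
    haveI : IsSimpleGroup (G ⧸ M) := inferInstance
    subst hM
    exact QuotientGroup.quotientBot.symm.isSimpleGroup

/-- The general step through the largest exact prime. -/
theorem isSimple_of_exact_prime {n r : ℕ} (hr : r.Prime) (hG : Nat.card G = n) (hrn : r ∣ n)
    (hr2 : ¬ r ^ 2 ∣ n) (hn6 : n < 6000)
    (hprimes : ∀ p : ℕ, p.Prime → p ∣ n → p ∈ degreePrimes G)
    (q₀ e : ℕ) (he : ¬ q₀ ^ (e + 1) ∣ n)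
    (hj : ∀ j < e, 0 < j → q₀ ^ e % r ≠ q₀ ^ j % r ∧ q₀ ^ j % r ≠ 1)
    (hcond : ∀ q ∈ (n / r).primeFactors, ∀ a ∈ List.range 10, q ^ a ∣ n / r →
      (∀ j < a, q ^ a % r ≠ q ^ j % r) ∨ (q = q₀ ∧ a = e))
    (hsmall : n / r < 1024)
    (hsection : ∀ (R : Subgroup G) [R.Normal] (A : Subgroup (G ⧸ R)) [A.Normal] [IsSimpleGroup A],
      ¬ r ∣ Nat.card R → (∀ K : Subgroup (G ⧸ R), K.Normal → ¬ r ∣ Nat.card K → K = ⊥) →
      Nat.card A ∣ n → r ∣ Nat.card A → Nat.card A ∈ orders → Nat.card A = n) :
    IsSimpleGroup G := by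
  classical
  subst hG
  haveI := Fact.mk hr
  obtain ⟨R, hRn, hrR, hRmax⟩ := exists_max_normal_coprime G hr
  haveI := hRn
  have hno : ∀ K : Subgroup (G ⧸ R), K.Normal → ¬ r ∣ Nat.card K → K = ⊥ := by
    intro K hK hrK
    haveI := hK
    have hc : K.comap (QuotientGroup.mk' R) ≤ R := hRmax _ (hK.comap _) fun hd => by
      obtain ⟨y, hy⟩ := exists_prime_orderOf_dvd_card' r hd
      set f := (QuotientGroup.mk' R).subgroupComap K with hf
      rcases (Nat.dvd_prime hr).1 (hy ▸ orderOf_map_dvd f y) with h1 | h1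
      · have hyR : (y : G) ∈ R := by
          rw [← QuotientGroup.eq_one_iff]
          exact congrArg Subtype.val (orderOf_eq_one_iff.1 h1)
        refine hrR (?_ : r ∣ Nat.card R)
        have h2 := Subgroup.orderOf_dvd_natCard R hyR
        rwa [Subgroup.orderOf_coe, hy] at h2
      · exact hrK (h1 ▸ orderOf_dvd_natCard _)
    rw [← Subgroup.map_comap_eq_self_of_surjective (QuotientGroup.mk'_surjective R) K,
      Subgroup.map_eq_bot_iff, QuotientGroup.ker_mk']
    exact hc
  have hQR := Subgroup.card_eq_card_quotient_mul_card_subgroup R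
  have hQd : Nat.card (G ⧸ R) ∣ Nat.card G := Dvd.intro _ hQR.symm
  have hrQ : r ∣ Nat.card (G ⧸ R) := (hr.dvd_mul.1 (hQR ▸ hrn)).resolve_right hrR
  obtain ⟨A, hAn, hrA, hAs⟩ := exists_simple_normal hr hrQ (fun h => hr2 (h.trans hQd)) hno
  haveI := hAn
  haveI := hAs
  have hAd : Nat.card A ∣ Nat.card G := A.card_subgroup_dvd_card.trans hQd
  by_cases hcomm : IsMulCommutative A
  · exfalso
    letI : CommGroup A := { (inferInstance : Group A) with mul_comm := fun a b => hcomm.is_comm.comm a b }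
    have hp : (Nat.card A).Prime := IsSimpleGroup.prime_card
    have hAr : Nat.card A = r := ((Nat.prime_dvd_prime_iff_eq hr hp).1 hrA).symm
    set N := A.comap (QuotientGroup.mk' R) with hN
    haveI : N.Normal := hAn.comap _
    have hNc : Nat.card N = r * Nat.card R := by
      have h1 : N.index = A.index := A.index_comap_of_surjective (QuotientGroup.mk'_surjective R)
      have h2 := N.card_mul_index
      have h3 := A.card_mul_index
      rw [h1] at h2
      rw [hAr] at h3
      rw [hQR, ← h3] at h2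
      exact Nat.eq_of_mul_eq_mul_right (Nat.pos_of_ne_zero Subgroup.index_ne_zero_of_finite)
        (by rw [h2]; ring)
    exact no_section_of_prime_order hr rfl hr2 hsmall
      ((QuotientGroup.ker_mk' R).symm.le.trans (Subgroup.ker_le_comap _ _)) hrR hNc hprimes q₀ e he hj
      hcond
  · have hA := hsection R A hrR hno hAd hrA
      (mem_orders hcomm (lt_of_le_of_lt (Nat.le_of_dvd Nat.card_pos hAd) hn6))
    have hle := Nat.le_of_dvd Nat.card_pos A.card_subgroup_dvd_card
    have hR1 : Nat.card R = 1 := by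
      have h0 : 0 < Nat.card R := Nat.card_pos
      rw [hA] at hle
      rw [hQR] at hle
      by_contra hne
      have h2 : Nat.card (G ⧸ R) * 2 ≤ Nat.card (G ⧸ R) * Nat.card R :=
        Nat.mul_le_mul_left _ (by omega)
      have h3 : 0 < Nat.card (G ⧸ R) := Nat.card_pos
      omega
    have hRbot := Subgroup.eq_bot_of_card_eq R hR1
    have hAtop : A = ⊤ := Subgroup.eq_top_of_card_eq A (by rw [hA, hQR, hR1, mul_one])
    subst hAtop
    haveI : IsSimpleGroup (G ⧸ R) := Subgroup.topEquiv.symm.isSimpleGroup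
    subst hRbot
    exact QuotientGroup.quotientBot.symm.isSimpleGroup

/-- A section of order 168 under order 504 gives the edge between two and three. -/
theorem adj_of_168_section {R : Subgroup G} [R.Normal] {A : Subgroup (G ⧸ R)} [A.Normal]
    [IsSimpleGroup A] (hA : Nat.card A = 168) : (degreeGraph G).Adj 2 3 := by
  classical
  haveI : Fact (Nat.Prime 7) := ⟨by norm_num⟩
  obtain ⟨-, hadj⟩ := psl_data (S := A) (t := 7) (e := 1) (n := 168) (by simp [orders]) hA (ZMod.card 7)
    (by norm_num) (fun _ => by norm_num) (by norm_num) rfl (by decide +kernel)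
  obtain ⟨-, -, -, d, hd, h6⟩ :=
    (hadj 2 3).2 ⟨by norm_num, Nat.prime_two, Nat.prime_three, Or.inr ⟨by norm_num, by norm_num⟩⟩
  set N := A.comap (QuotientGroup.mk' R) with hN
  haveI : N.Normal := (inferInstance : A.Normal).comap _
  haveI := Fintype.ofFinite N
  obtain ⟨φ, hφ⟩ := mem_charDegrees_of_surjective
    (MonoidHom.subgroupComap_surjective_of_surjective (QuotientGroup.mk' R) A
      (QuotientGroup.mk'_surjective R)) hd
  obtain ⟨η, hη⟩ := exists_dvd_over N φ
  exact adj_of_dvd Nat.prime_two Nat.prime_three (by norm_num) ⟨η, h6.trans (hφ ▸ hη)⟩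

/-- A section of order sixty under order 360 is impossible. -/
theorem false_of_60_section (hG : Nat.card G = 360) {R : Subgroup G} [R.Normal]
    {A : Subgroup (G ⧸ R)} [A.Normal] [IsSimpleGroup A] (hA : Nat.card A = 60)
    (hno : ∀ K : Subgroup (G ⧸ R), K.Normal → ¬ 5 ∣ Nat.card K → K = ⊥)
    (h25 : (degreeGraph G).Adj 2 5) (h23 : ¬ (degreeGraph G).Adj 2 3) : False := by
  classical
  haveI := Fintype.ofFinite (G ⧸ R)
  have hQR := Subgroup.card_eq_card_quotient_mul_card_subgroup R
  rw [hG] at hQR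
  rcases almost_simple_sixty hA (Dvd.intro _ hQR.symm) hno with h | ⟨h, hconj⟩
  · have hR : Nat.card R = 6 := by rw [h] at hQR; omega
    have hAtop : A = ⊤ := Subgroup.eq_top_of_card_eq A (by rw [hA, h])
    subst hAtop
    haveI : IsSimpleGroup (G ⧸ R) := Subgroup.topEquiv.symm.isSimpleGroup
    exact false_of_normal_six hG hR h25 h23
  · obtain ⟨η, hη⟩ := six_dvd_degree hA h hconj
    obtain ⟨χ, hχ⟩ := mem_charDegrees_of_surjective (QuotientGroup.mk'_surjective R)
      (⟨η, rfl⟩ : charDegree (η : G ⧸ R → ℂ) ∈ charDegrees (G ⧸ R))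
    exact h23 (adj_of_dvd Nat.prime_two Nat.prime_three (by norm_num) ⟨χ, hχ ▸ hη⟩)

/-- The main step: simplicity. -/
theorem isSimple_of_graph {n : ℕ} (hn : n ∈ orders) (hG : Nat.card G = n)
    (hprimes : ∀ p : ℕ, p.Prime → p ∣ n → p ∈ degreePrimes G)
    (h360 : n = 360 → (degreeGraph G).Adj 2 5 ∧ ¬ (degreeGraph G).Adj 2 3)
    (h504 : n = 504 → ¬ (degreeGraph G).Adj 2 3)
    (h2520 : n = 2520 → (degreeGraph G).Adj 5 7 ∧ (degreeGraph G).Adj 3 7 ∧ (degreeGraph G).Adj 3 5) :
    IsSimpleGroup G := by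
  classical
  simp only [orders, List.mem_cons, List.not_mem_nil, or_false] at hn
  rcases hn with rfl | rfl | rfl | rfl | rfl | rfl | rfl | rfl | rfl | rfl | rfl
  · exact isSimple_of_exact_prime (r := 5) (by norm_num) hG (by norm_num) (by norm_num) (by norm_num)
      hprimes 23 1 (by norm_num) (by omega) (by decide +kernel) (by norm_num)
      fun R _ A _ _ _ _ h1 h2 h3 => (show ∀ s ∈ orders, s ∣ 60 → 5 ∣ s → s = 60 by decide) _ h3 h1 h2
  · exact isSimple_of_exact_prime (r := 7) (by norm_num) hG (by norm_num) (by norm_num) (by norm_num)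
      hprimes 2 3 (by norm_num) (by decide) (by decide +kernel) (by norm_num)
      fun R _ A _ _ _ _ h1 h2 h3 => (show ∀ s ∈ orders, s ∣ 168 → 7 ∣ s → s = 168 by decide) _ h3 h1 h2
  · refine isSimple_of_exact_prime (r := 5) (by norm_num) hG (by norm_num) (by norm_num) (by norm_num)
      hprimes 23 1 (by norm_num) (by omega) (by decide +kernel) (by norm_num)
      fun R _ A _ _ _ hno h1 h2 h3 => ?_
    rcases (show ∀ s ∈ orders, s ∣ 360 → 5 ∣ s → s = 360 ∨ s = 60 by decide) _ h3 h1 h2 with h | h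
    · exact h
    · obtain ⟨h25, h23⟩ := h360 rfl
      exact (false_of_60_section hG h hno h25 h23).elim
  · refine isSimple_of_exact_prime (r := 7) (by norm_num) hG (by norm_num) (by norm_num) (by norm_num)
      hprimes 2 3 (by norm_num) (by decide) (by decide +kernel) (by norm_num)
      fun R _ A _ _ _ hno h1 h2 h3 => ?_
    rcases (show ∀ s ∈ orders, s ∣ 504 → 7 ∣ s → s = 504 ∨ s = 168 by decide) _ h3 h1 h2 with h | h
    · exact h
    · exact (h504 rfl (adj_of_168_section h)).elim
  · exact isSimple_of_exact_prime (r := 11) (by norm_num) hG (by norm_num) (by norm_num) (by norm_num)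
      hprimes 23 1 (by norm_num) (by omega) (by decide +kernel) (by norm_num)
      fun R _ A _ _ _ _ h1 h2 h3 => (show ∀ s ∈ orders, s ∣ 660 → 11 ∣ s → s = 660 by decide) _ h3 h1 h2
  · exact isSimple_of_exact_prime (r := 13) (by norm_num) hG (by norm_num) (by norm_num) (by norm_num)
      hprimes 23 1 (by norm_num) (by omega) (by decide +kernel) (by norm_num)
      fun R _ A _ _ _ _ h1 h2 h3 => (show ∀ s ∈ orders, s ∣ 1092 → 13 ∣ s → s = 1092 by decide) _ h3 h1 h2
  · exact isSimple_of_exact_prime (r := 17) (by norm_num) hG (by norm_num) (by norm_num) (by norm_num)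
      hprimes 23 1 (by norm_num) (by omega) (by decide +kernel) (by norm_num)
      fun R _ A _ _ _ _ h1 h2 h3 => (show ∀ s ∈ orders, s ∣ 2448 → 17 ∣ s → s = 2448 by decide) _ h3 h1 h2
  · obtain ⟨h57, h37, h35⟩ := h2520 rfl
    exact isSimple_2520 hG (fun p hp hd => hprimes p hp (hG ▸ hd)) h57 h37 h35
  · exact isSimple_of_exact_prime (r := 19) (by norm_num) hG (by norm_num) (by norm_num) (by norm_num)
      hprimes 23 1 (by norm_num) (by omega) (by decide +kernel) (by norm_num)
      fun R _ A _ _ _ _ h1 h2 h3 => (show ∀ s ∈ orders, s ∣ 3420 → 19 ∣ s → s = 3420 by decide) _ h3 h1 h2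
  · exact isSimple_of_exact_prime (r := 17) (by norm_num) hG (by norm_num) (by norm_num) (by norm_num)
      hprimes 23 1 (by norm_num) (by omega) (by decide +kernel) (by norm_num)
      fun R _ A _ _ _ _ h1 h2 h3 => (show ∀ s ∈ orders, s ∣ 4080 → 17 ∣ s → s = 4080 by decide) _ h3 h1 h2
  · exact isSimple_of_exact_prime (r := 13) (by norm_num) hG (by norm_num) (by norm_num) (by norm_num)
      hprimes 3 3 (by norm_num) (by decide) (by decide +kernel) (by norm_num)
      fun R _ A _ _ _ _ h1 h2 h3 => (show ∀ s ∈ orders, s ∣ 5616 → 13 ∣ s → s = 5616 by decide) _ h3 h1 h2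

end Cfsg.Lib.Small.Gap
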