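import Cfsg.Agent.Lib.Small.Gap.SimpleData
import Cfsg.Agent.Lib.Small.Gap.GraphLocal
import Mathlib.GroupTheory.SpecificGroups.Cyclic
import Mathlib.GroupTheory.Subgroup.Centralizer
import Mathlib.GroupTheory.Complement

/-!
# A group of order dividing 360 with a simple section of order sixty
-/

set_option autoImplicit false
set_option linter.unusedSectionVars false
set_option linter.style.haveILetI false

namespace Cfsg.Lib.Small.Gap

open Cfsg Cfsg.Lib Cfsg.Lib.Small
open scoped Pointwise

universe u v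

theorem simple_card_not_comm {S : Type u} [Group S] [Finite S] [IsSimpleGroup S]
    (h : ¬ (Nat.card S).Prime) : ¬ IsMulCommutative S := fun hc =>
  h (by
    let _ : CommGroup S := { (inferInstance : Group S) with mul_comm := fun a b => hc.is_comm.comm a b }
    exact IsSimpleGroup.prime_card)

/-- A character constant on a subgroup. -/
theorem sq_mul_le {G : Type u} [Group G] [Fintype G] (χ : IrrCharacter G) {N : Subgroup G}
    (hN : ∀ x ∈ N, (χ : G → ℂ) x = (χ : G → ℂ) 1) :
    Nat.card N * charDegree (χ : G → ℂ) ^ 2 ≤ Nat.card G := by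
  classical
  haveI := Fintype.ofFinite N
  have hnorm : ∑ x : G, Complex.normSq ((χ : G → ℂ) x) = (Nat.card G : ℝ) := by
    have h := Char.classInner_irr_self χ.2
    rw [classInner, inv_mul_eq_one₀ Char.card_cast_ne_zero] at h
    have h' := congrArg Complex.re h.symm
    rw [Complex.re_sum, Complex.natCast_re] at h'
    rw [← h']
    refine Finset.sum_congr rfl fun x _ => ?_
    rw [Complex.mul_conj, Complex.ofReal_re]
  have hle : ∑ x ∈ (Finset.univ : Finset N).map ⟨Subtype.val, Subtype.val_injective⟩,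
      Complex.normSq ((χ : G → ℂ) x) ≤ ∑ x : G, Complex.normSq ((χ : G → ℂ) x) :=
    Finset.sum_le_sum_of_subset_of_nonneg (Finset.subset_univ _) fun x _ _ => Complex.normSq_nonneg _
  rw [Finset.sum_map, hnorm] at hle
  simp only [Function.Embedding.coeFn_mk] at hle
  rw [Finset.sum_congr rfl (g := fun _ => (charDegree (χ : G → ℂ) : ℝ) ^ 2) fun z _ => by
      rw [hN _ z.2, χ.2.apply_one_eq_charDegree, Complex.normSq_natCast, sq],
    Finset.sum_const, Finset.card_univ, nsmul_eq_mul, ← Nat.card_eq_fintype_card] at hle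
  exact_mod_cast hle

/-- The action on the six Sylow subgroups at five. -/
theorem almost_simple_sixty {Q : Type u} [Group Q] [Finite Q] {A : Subgroup Q} [A.Normal]
    [IsSimpleGroup A] (hA : Nat.card A = 60) (hQ : Nat.card Q ∣ 360)
    (hno : ∀ K : Subgroup Q, K.Normal → ¬ 5 ∣ Nat.card K → K = ⊥) :
    Nat.card Q = 60 ∨ (Nat.card Q = 120 ∧
      ∀ x : Q, orderOf x = 5 → ∀ k : ℕ, ¬ 5 ∣ k → ∃ y : Q, y * x * y⁻¹ = x ^ k) := by
  classical
  haveI h5 : Fact (Nat.Prime 5) := ⟨by norm_num⟩
  obtain ⟨d, hd⟩ : 60 ∣ Nat.card Q := hA ▸ A.card_subgroup_dvd_card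
  have hd6 : d ∣ 6 := Nat.dvd_of_mul_dvd_mul_left (by norm_num : 0 < 60) (by rw [← hd]; exact hQ)
  have hQA : Nat.card (Q ⧸ A) = d := by
    have h := Subgroup.card_eq_card_quotient_mul_card_subgroup A
    rw [hd, hA] at h; omega
  have hinA : ∀ x : Q, orderOf x = 5 → x ∈ A := fun x hx => by
    rw [← QuotientGroup.eq_one_iff, ← orderOf_eq_one_iff, ← Nat.dvd_one,
      ← (by norm_num : Nat.gcd 5 6 = 1)]
    exact Nat.dvd_gcd (hx ▸ orderOf_map_dvd (QuotientGroup.mk' A) x)
      ((orderOf_dvd_natCard _).trans (hQA.dvd.trans hd6))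
  have hd0 : d ≠ 0 := fun h => by rw [h, mul_zero] at hd; exact Nat.card_pos.ne' hd
  have hP : ∀ P : Sylow 5 Q, Nat.card (P : Subgroup Q) = 5 := fun P => by
    have hfac : (Nat.card Q).factorization 5 = 1 := by
      refine le_antisymm ?_ ((Fact.out : Nat.Prime 5).factorization_pos_of_dvd Nat.card_pos.ne'
        (Dvd.dvd.trans (by norm_num) (Dvd.intro _ hd.symm)))
      by_contra hlt
      have := ((pow_dvd_pow 5 (show 2 ≤ (Nat.card Q).factorization 5 by omega)).trans
        (Nat.ordProj_dvd _ 5)).trans hQ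
      norm_num at this
    rw [P.card_eq_multiplicity, hfac, pow_one]
  have hgen : ∀ (P : Sylow 5 Q) (y : Q), y ∈ (P : Subgroup Q) → y ≠ 1 →
      orderOf y = 5 ∧ (P : Subgroup Q) = Subgroup.zpowers y := fun P y hy hy1 => by
    have ho : orderOf y = 5 := orderOf_eq_prime (by
      have h := Subgroup.orderOf_dvd_natCard _ hy
      rw [hP] at h
      exact orderOf_dvd_iff_pow_eq_one.1 h) hy1
    exact ⟨ho, (Subgroup.eq_of_le_of_card_ge (Subgroup.zpowers_le.2 hy)
      (by rw [Nat.card_zpowers, ho, hP])).symm⟩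
  have hfix : ∀ (y : Q) (P : Sylow 5 Q), y ^ 5 = 1 → y • P = P → y ∈ (P : Subgroup Q) := by
    intro y P hy hfix
    rw [Sylow.smul_eq_iff_mem_normalizer] at hfix
    have hpg : IsPGroup 5 (Subgroup.zpowers y) := by
      intro z
      obtain ⟨i, hi⟩ := Subgroup.mem_zpowers_iff.1 z.2
      refine ⟨1, Subtype.ext ?_⟩
      rw [SubmonoidClass.coe_pow, ← hi, ← zpow_natCast, ← zpow_mul, mul_comm, zpow_mul, zpow_natCast,
        pow_one, hy, one_zpow, OneMemClass.coe_one]
    have h := hpg.inf_normalizer_sylow P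
    have hmem : y ∈ Subgroup.zpowers y ⊓ (P : Subgroup Q) := by
      rw [← h]; exact ⟨Subgroup.mem_zpowers y, hfix⟩
    exact hmem.2
  -- six Sylow subgroups
  have hnc : ¬ IsMulCommutative A := simple_card_not_comm (by rw [hA]; norm_num)
  have hPA : ∀ P : Sylow 5 Q, (P : Subgroup Q) ≤ A := fun P y hy => by
    by_cases hy1 : y = 1
    · rw [hy1]; exact one_mem _
    · exact hinA y (hgen P y hy hy1).1
  have hn1 : Nat.card (Sylow 5 Q) ≠ 1 := fun h1 => by
    haveI : Subsingleton (Sylow 5 Q) := (Nat.card_eq_one_iff_unique.1 h1).1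
    obtain ⟨P⟩ : Nonempty (Sylow 5 Q) := inferInstance
    haveI : (P : Subgroup Q).Normal := P.normal_of_subsingleton
    have hc : Nat.card ((P : Subgroup Q).subgroupOf A) = 5 := by
      rw [Nat.card_congr (Subgroup.subgroupOfEquivOfLe (hPA P)).toEquiv, hP]
    rcases (Subgroup.Normal.subgroupOf (inferInstance : (P : Subgroup Q).Normal) A).eq_bot_or_eq_top
      with h | h
    · rw [h, Subgroup.card_bot] at hc; omega
    · rw [h, Subgroup.card_top, hA] at hc; omega
  have hn : Nat.card (Sylow 5 Q) = 6 := by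
    have hmod : Nat.card (Sylow 5 Q) % 5 = 1 := by
      have h := card_sylow_modEq_one 5 Q
      exact h
    obtain ⟨P⟩ : Nonempty (Sylow 5 Q) := inferInstance
    have hdvd : Nat.card (Sylow 5 Q) ∣ 72 := by
      have h := P.card_dvd_index
      have h' : (P : Subgroup Q).index * 5 ∣ 72 * 5 := by
        have h0 := (P : Subgroup Q).card_mul_index
        rw [hP P, mul_comm] at h0
        rw [h0]; exact hQ
      exact h.trans (Nat.dvd_of_mul_dvd_mul_right (by norm_num) h')
    have hle : Nat.card (Σ P : Sylow 5 Q, {y : (P : Subgroup Q) // y ≠ 1}) ≤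
        Nat.card {y : A // y ≠ 1} := by
      refine Nat.card_le_card_of_injective (fun p => ⟨⟨(p.2.1 : Q), hPA p.1 p.2.1.2⟩, fun h =>
        p.2.2 (Subtype.ext (congrArg Subtype.val h :))⟩) ?_
      rintro ⟨P, y, hy⟩ ⟨P', y', hy'⟩ h
      have hyy : (y : Q) = y' := congrArg (fun z => ((z : {y : A // y ≠ 1}).1 : Q)) h
      have hPP : P = P' := Sylow.ext (by
        rw [(hgen P y y.2 fun h => hy (Subtype.ext h)).2, hyy,
          ← (hgen P' y' y'.2 fun h => hy' (Subtype.ext h)).2])
      subst hPP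
      obtain rfl : y = y' := Subtype.ext hyy
      rfl
    haveI := Fintype.ofFinite A
    haveI := Fintype.ofFinite (Sylow 5 Q)
    have hne : ∀ {H : Subgroup Q}, Nat.card {y : H // y ≠ 1} = Nat.card H - 1 := fun {H} => by
      haveI := Fintype.ofFinite H
      rw [Nat.card_eq_fintype_card, Fintype.card_subtype_compl, Fintype.card_subtype_eq,
        Nat.card_eq_fintype_card]
    rw [Nat.card_sigma, Finset.sum_congr rfl (g := fun _ => 4) fun P _ => by rw [hne, hP],
      Finset.sum_const, Finset.card_univ, smul_eq_mul, hne, hA, ← Nat.card_eq_fintype_card] at hle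
    have h14 : Nat.card (Sylow 5 Q) < 15 := by omega
    revert hn1 hmod hdvd
    generalize Nat.card (Sylow 5 Q) = m at h14 ⊢
    revert h14
    revert m
    decide
  -- the action is faithful
  set ψ := MulAction.toPermHom Q (Sylow 5 Q) with hψ
  have hker : ψ.ker = ⊥ := by
    refine hno _ inferInstance fun h => ?_
    obtain ⟨y, hy⟩ := exists_prime_orderOf_dvd_card' 5 h
    have hy' : orderOf (y : Q) = 5 := by rw [Subgroup.orderOf_coe, hy]
    haveI : Subsingleton (Sylow 5 Q) := ⟨fun P P' => Sylow.ext (by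
      have hmem : ∀ R : Sylow 5 Q, (y : Q) ∈ (R : Subgroup Q) := fun R =>
        hfix _ R (orderOf_dvd_iff_pow_eq_one.1 hy'.dvd) (by
          have h2 := DFunLike.congr_fun (MonoidHom.mem_ker.1 y.2) R
          exact h2)
      have hy1 : (y : Q) ≠ 1 := fun h0 => by rw [h0, orderOf_one] at hy'; omega
      rw [(hgen P _ (hmem P) hy1).2, (hgen P' _ (hmem P') hy1).2])⟩
    exact hn1 Nat.card_unique
  obtain ⟨P⟩ : Nonempty (Sylow 5 Q) := inferInstance
  obtain ⟨x₀, hx₀⟩ := exists_prime_orderOf_dvd_card' 5 (hP P).symm.dvd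
  set x : Q := (x₀ : Q) with hxdef
  have hx5 : orderOf x = 5 := by rw [hxdef, Subgroup.orderOf_coe, hx₀]
  have hx1 : x ≠ 1 := fun h => by rw [h, orderOf_one] at hx5; omega
  have hxP : x ∈ (P : Subgroup Q) := x₀.2
  obtain ⟨P₁, hP₁⟩ : ∃ P₁ : Sylow 5 Q, P₁ ≠ P := by
    haveI : Nontrivial (Sylow 5 Q) := Finite.one_lt_card_iff_nontrivial.1 (by omega)
    exact exists_ne P
  have hxN : ∀ i : ℕ, (x ^ i) • P = P := fun i => Sylow.smul_eq_iff_mem_normalizer.2
    (Subgroup.le_normalizer (pow_mem hxP i))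
  let f : Fin 5 → {R : Sylow 5 Q // R ≠ P} := fun i => ⟨(x ^ (i : ℕ)) • P₁, fun h => hP₁
    (MulAction.injective (x ^ (i : ℕ)) (h.trans (hxN i).symm))⟩
  have hfinj : Function.Injective f := by
    intro i j h
    have h' : (x ^ (i : ℕ)) • P₁ = (x ^ (j : ℕ)) • P₁ := congrArg Subtype.val h
    have hy5 : ((x ^ (j : ℕ))⁻¹ * x ^ (i : ℕ)) ^ 5 = 1 := by
      have h5x : x ^ 5 = 1 := by rw [← hx5, pow_orderOf_eq_one]
      rw [((Commute.refl x).pow_pow _ _).inv_left.mul_pow, inv_pow, ← pow_mul, ← pow_mul,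
        mul_comm (j : ℕ), mul_comm (i : ℕ), pow_mul, pow_mul, h5x, one_pow, one_pow, inv_one, one_mul]
    have hy : (x ^ (j : ℕ))⁻¹ * x ^ (i : ℕ) ∈ (P₁ : Subgroup Q) := hfix _ P₁ hy5 (by
      rw [mul_smul, h', inv_smul_smul])
    by_contra hne
    refine hP₁ (Sylow.ext ?_)
    have hy1 : (x ^ (j : ℕ))⁻¹ * x ^ (i : ℕ) ≠ 1 := fun h1 => hne (Fin.ext (pow_injOn_Iio_orderOf
      (by rw [Set.mem_Iio, hx5]; exact i.2) (by rw [Set.mem_Iio, hx5]; exact j.2)
      (inv_mul_eq_one.1 h1).symm))
    rw [(hgen P₁ _ hy hy1).2, (hgen P _ (mul_mem (inv_mem (pow_mem hxP _)) (pow_mem hxP _)) hy1).2]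
  have hfsurj : Function.Surjective f := by
    refine ((Nat.bijective_iff_injective_and_card f).2 ⟨hfinj, ?_⟩).2
    haveI := Fintype.ofFinite (Sylow 5 Q)
    rw [Nat.card_eq_fintype_card, Fintype.card_fin, Nat.card_eq_fintype_card,
      Fintype.card_subtype_compl, Fintype.card_subtype_eq, ← Nat.card_eq_fintype_card, hn]
  set N := Subgroup.normalizer ((P : Subgroup Q) : Set Q) with hN
  set C := Subgroup.centralizer ((P : Subgroup Q) : Set Q) with hC
  have hCN : C ≤ N := Subgroup.centralizer_le_normalizer _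
  have hC5 : Nat.card C ≤ 5 := by
    have hinj : Function.Injective (fun c : C => (⟨(c : Q) • P₁, fun h => hP₁
        (MulAction.injective (c : Q) (h.trans (Sylow.smul_eq_iff_mem_normalizer.2 (hCN c.2)).symm))⟩ :
          {R : Sylow 5 Q // R ≠ P})) := by
      intro c c' h
      have h' : (c : Q) • P₁ = (c' : Q) • P₁ := congrArg Subtype.val h
      have hd : (c'⁻¹ * c : C) ∈ C.subtype.ker := by
        have hmem : ((c'⁻¹ * c : C) : Q) ∈ ψ.ker := by
          refine MonoidHom.mem_ker.2 (Equiv.ext fun R => ?_)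
          show ((c'⁻¹ * c : C) : Q) • R = R
          by_cases hR : R = P
          · rw [hR]; exact Sylow.smul_eq_iff_mem_normalizer.2 (hCN (c'⁻¹ * c).2)
          obtain ⟨i, hi⟩ := hfsurj ⟨R, hR⟩
          have hi' : (x ^ (i : ℕ)) • P₁ = R := congrArg Subtype.val hi
          have hcomm : ((c'⁻¹ * c : C) : Q) * x ^ (i : ℕ) = x ^ (i : ℕ) * ((c'⁻¹ * c : C) : Q) :=
            ((Subgroup.mem_centralizer_iff.1 (c'⁻¹ * c).2 _ (pow_mem hxP _))).symm
          rw [← hi', ← mul_smul, hcomm, mul_smul, Subgroup.coe_mul, mul_smul, h', Subgroup.coe_inv,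
            inv_smul_smul]
        rw [hker, Subgroup.mem_bot] at hmem
        exact hmem
      rw [C.ker_subtype, Subgroup.mem_bot, inv_mul_eq_one] at hd
      exact hd.symm
    refine (Nat.card_le_card_of_injective _ hinj).trans ?_
    exact (Nat.card_le_card_of_surjective f hfsurj).trans (by rw [Nat.card_eq_fintype_card, Fintype.card_fin])
  haveI : IsCyclic (P : Subgroup Q) := isCyclic_of_prime_card (hP P)
  have hPC : (P : Subgroup Q) ≤ C := fun a ha => Subgroup.mem_centralizer_iff.2 fun b hb => by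
    letI : CommGroup (P : Subgroup Q) := IsCyclic.commGroup
    exact congrArg Subtype.val (mul_comm (⟨b, hb⟩ : (P : Subgroup Q)) ⟨a, ha⟩)
  have hC5' : Nat.card C = 5 := le_antisymm hC5 (Nat.le_of_dvd Nat.card_pos
    ((hP P).symm.dvd.trans (Subgroup.card_dvd_of_le hPC)))
  set φ := (P : Subgroup Q).normalizerMonoidHom with hφ
  have hkerφ : Nat.card φ.ker = 5 := by
    rw [hφ, Subgroup.normalizerMonoidHom_ker, Nat.card_congr (Subgroup.subgroupOfEquivOfLe hCN).toEquiv]
    exact hC5'
  have haut : Nat.card (MulAut (P : Subgroup Q)) = 4 := by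
    rw [IsCyclic.card_mulAut, hP]; decide
  have hNr : Nat.card N = Nat.card φ.range * 5 := by
    have h0 := Subgroup.card_eq_card_quotient_mul_card_subgroup φ.ker
    rw [Nat.card_congr (QuotientGroup.quotientKerEquivRange φ).toEquiv, hkerφ] at h0
    exact h0
  have hQN : Nat.card Q = 6 * Nat.card N := by
    rw [← hn, P.card_eq_index_normalizer, mul_comm]
    exact (Subgroup.card_mul_index _).symm
  have hr4 : Nat.card φ.range ∣ 4 := haut ▸ φ.range.card_subgroup_dvd_card
  have hr : Nat.card φ.range = 2 ∧ Nat.card Q = 60 ∨ Nat.card φ.range = 4 ∧ Nat.card Q = 120 := by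
    rcases (Nat.dvd_prime_pow Nat.prime_two).1 (show Nat.card φ.range ∣ 2 ^ 2 from hr4)
      with ⟨i, hi, hi'⟩
    interval_cases i <;> omega
  rcases hr with ⟨-, hr⟩ | ⟨hr, hr'⟩
  · exact Or.inl hr
  refine Or.inr ⟨hr', fun z hz k hk => ?_⟩
  -- every power of a generator is a conjugate
  have hPz : ∃ P' : Sylow 5 Q, z ∈ (P' : Subgroup Q) := by
    obtain ⟨P', hP'⟩ := (IsPGroup.of_card (n := 1) (by rw [Nat.card_zpowers, hz, pow_one]) :
      IsPGroup 5 (Subgroup.zpowers z)).exists_le_sylow
    exact ⟨P', hP' (Subgroup.mem_zpowers z)⟩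
  obtain ⟨P', hzP'⟩ := hPz
  obtain ⟨w, hw⟩ := MulAction.exists_smul_eq Q P P'
  have hzP : w⁻¹ * z * w ∈ (P : Subgroup Q) := by
    rw [← hw] at hzP'
    obtain ⟨u, hu, huz⟩ := hzP'
    have : w * u * w⁻¹ = z := huz
    rw [← this, show w⁻¹ * (w * u * w⁻¹) * w = u by group]
    exact hu
  set z' : (P : Subgroup Q) := ⟨_, hzP⟩ with hz'
  have hz'5 : orderOf z' = 5 := by
    rw [← Subgroup.orderOf_coe]
    show orderOf (w⁻¹ * z * w) = 5
    have h0 : (MulAut.conj w⁻¹) z = w⁻¹ * z * w := by simp
    rw [← h0, MulEquiv.orderOf_eq, hz]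
  have hco : (Nat.card (P : Subgroup Q)).Coprime k := by
    rw [hP]; exact (Nat.Prime.coprime_iff_not_dvd (by norm_num)).2 hk
  letI : CommGroup (P : Subgroup Q) := IsCyclic.commGroup
  let σ : MulAut (P : Subgroup Q) :=
    { powCoprime hco with map_mul' := fun a b => mul_pow a b k }
  have htop : φ.range = ⊤ := Subgroup.eq_top_of_card_eq _ (by rw [hr, haut])
  obtain ⟨y, hy⟩ : σ ∈ φ.range := htop ▸ Subgroup.mem_top σ
  refine ⟨w * y * w⁻¹, ?_⟩
  have h : (y : Q) * (w⁻¹ * z * w) * (y : Q)⁻¹ = (w⁻¹ * z * w) ^ k := by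
    have h1 := congrArg Subtype.val (DFunLike.congr_fun hy z')
    exact h1
  have hpow : (w⁻¹ * z * w) ^ k = w⁻¹ * z ^ k * w := by
    have := conj_pow (i := k) (a := w⁻¹) (b := z)
    simpa using this
  rw [hpow] at h
  calc w * (y : Q) * w⁻¹ * z * (w * (y : Q) * w⁻¹)⁻¹
      = w * ((y : Q) * (w⁻¹ * z * w) * (y : Q)⁻¹) * w⁻¹ := by group
    _ = z ^ k := by rw [h]; group

/-- A group of order 120 of that kind has a degree divisible by six. -/
theorem six_dvd_degree {Q : Type u} [Group Q] [Fintype Q] {A : Subgroup Q} [A.Normal]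
    [IsSimpleGroup A] (hA : Nat.card A = 60) (hQ : Nat.card Q = 120)
    (hconj : ∀ x : Q, orderOf x = 5 → ∀ k : ℕ, ¬ 5 ∣ k → ∃ y : Q, y * x * y⁻¹ = x ^ k) :
    ∃ η : IrrCharacter Q, 6 ∣ charDegree (η : Q → ℂ) := by
  classical
  haveI := Fintype.ofFinite A
  haveI h5 : Fact (Nat.Prime 5) := ⟨by norm_num⟩
  obtain ⟨-, d, ⟨φ, rfl⟩, h3⟩ :=
    (simple_data (S := A) (n := 60) (by simp [orders]) hA).1 3 Nat.prime_three (by norm_num)
  obtain ⟨η, hη⟩ := exists_dvd_over A φ
  have hsq : charDegree (η : Q → ℂ) ^ 2 ≤ 120 := by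
    rw [← hQ, ← sum_sq_charDegree]
    exact Finset.single_le_sum (f := fun χ : IrrCharacter Q => charDegree (χ : Q → ℂ) ^ 2)
      (fun _ _ => Nat.zero_le _) (Finset.mem_univ η)
  have hd : charDegree (η : Q → ℂ) ∣ 120 := hQ ▸ Char.charDegree_dvd_card η.2
  have hd3 : 3 ∣ charDegree (η : Q → ℂ) := h3.trans hη
  set m := charDegree (η : Q → ℂ) with hm
  have hm' : m = 3 ∨ m = 6 := by
    have : m ≤ 10 := by nlinarith
    interval_cases m <;> omega
  rcases hm' with h | h
  swap; · exact ⟨η, (dvd_of_eq h.symm : 6 ∣ m)⟩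
  exfalso
  -- the elements of order five lie in the kernel
  obtain ⟨x₀, hx₀⟩ := exists_prime_orderOf_dvd_card' 5 (G := A) (by rw [hA]; norm_num)
  set x : Q := (x₀ : Q) with hxdef
  have hx5 : orderOf x = 5 := by rw [hxdef, Subgroup.orderOf_coe, hx₀]
  set P := Subgroup.zpowers x with hP
  have hPc : Nat.card P = 5 ^ 1 := by rw [hP, Nat.card_zpowers, hx5, pow_one]
  haveI := Fintype.ofFinite P
  set χ : P → ℂ := fun g => (η : Q → ℂ) g with hχdef
  have hχ : IsCharacter P χ := η.2.isCharacter.comp P.subtype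
  set K := Char.charKer η.2.isCharacter with hKdef
  have hK : K.Normal := Char.charKer_normal η.2.isCharacter
  have hKA : A ≤ K := by
    by_contra hnle
    have hbot : K.subgroupOf A = ⊥ :=
      (Subgroup.Normal.subgroupOf hK A).eq_bot_or_eq_top.resolve_right fun ht =>
        hnle (Subgroup.subgroupOf_eq_top.1 ht)
    have hfaith : ∀ g : P, χ g = χ 1 → g = 1 := by
      intro g hg
      have hgA : (g : Q) ∈ A := (Subgroup.zpowers_le.2 x₀.2) g.2
      have hgK : (⟨g, hgA⟩ : A) ∈ K.subgroupOf A :=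
        Subgroup.mem_subgroupOf.2 ((Char.mem_charKer η.2.isCharacter).2 hg)
      rw [hbot, Subgroup.mem_bot] at hgK
      exact Subtype.ext (congrArg Subtype.val hgK :)
    have hbd := Char.exponent_le_degBound (by norm_num) hPc hχ hfaith (m := 3)
      (by show (η : Q → ℂ) ((1 : P) : Q) = _
          rw [OneMemClass.coe_one, η.2.apply_one_eq_charDegree, ← hm, h]) fun k hk g => ?_
    · revert hbd; decide +kernel
    show (η : Q → ℂ) ((g ^ k : P) : Q) = (η : Q → ℂ) (g : Q)
    rw [SubmonoidClass.coe_pow]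
    by_cases hg1 : (g : Q) = 1
    · rw [hg1, one_pow]
    have hgo : orderOf (g : Q) = 5 := orderOf_eq_prime (by
      have := Subgroup.orderOf_dvd_natCard P g.2
      rw [hPc, pow_one] at this
      exact orderOf_dvd_iff_pow_eq_one.1 this) hg1
    have hk5 : ¬ 5 ∣ k := fun hd5 => by
      rw [hPc, pow_one] at hk
      exact absurd (hk.symm.coprime_dvd_right hd5) (by norm_num)
    obtain ⟨y, hy⟩ := hconj _ hgo k hk5
    rw [← hy, η.2.isCharacter.conj_invariant]
  have h540 := sq_mul_le η (N := A) fun a ha => (Char.mem_charKer η.2.isCharacter).1 (hKA ha)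
  rw [hA, ← hm, h, hQ] at h540
  norm_num at h540

/-- A normal subgroup of order six under a simple group of order sixty. -/
theorem false_of_normal_six {G : Type u} [Group G] [Fintype G] (hG : Nat.card G = 360)
    {R : Subgroup G} [R.Normal] (hR : Nat.card R = 6) [IsSimpleGroup (G ⧸ R)]
    (h25 : (degreeGraph G).Adj 2 5) (h23 : ¬ (degreeGraph G).Adj 2 3) : False := by
  classical
  haveI := Fintype.ofFinite R
  set C := Subgroup.centralizer (R : Set G) with hC
  haveI : C.Normal := inferInstance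
  set α : G →* MulAut R := MulAut.conjNormal with hα
  have hker : α.ker = C := by
    ext g
    rw [MonoidHom.mem_ker, hC, Subgroup.mem_centralizer_iff]
    constructor
    · intro h r hr
      have h1 := congrArg Subtype.val (DFunLike.congr_fun h ⟨r, hr⟩)
      rw [hα, MulAut.conjNormal_apply] at h1
      exact (mul_inv_eq_iff_eq_mul.1 h1).symm
    · intro h
      refine MulEquiv.ext fun r => Subtype.ext ?_
      rw [hα, MulAut.conjNormal_apply, ← h r r.2, mul_inv_cancel_right]
      rfl
  have hq : Nat.card (G ⧸ R) = 60 := by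
    have h := Subgroup.card_eq_card_quotient_mul_card_subgroup R
    rw [hG, hR] at h; omega
  have hrange : Nat.card (G ⧸ C) = Nat.card α.range := by
    rw [← hker]; exact Nat.card_congr (QuotientGroup.quotientKerEquivRange α).toEquiv
  have hmapC : C.map (QuotientGroup.mk' R) = ⊥ ∨ C.map (QuotientGroup.mk' R) = ⊤ :=
    (Subgroup.Normal.map inferInstance _ (QuotientGroup.mk'_surjective R)).eq_bot_or_eq_top
  by_cases hcomm : ∀ a b : R, a * b = b * a
  · -- abelian, hence central
    have hRC : R ≤ C := fun a ha => Subgroup.mem_centralizer_iff.2 fun b hb =>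
      congrArg Subtype.val (hcomm ⟨b, hb⟩ ⟨a, ha⟩)
    haveI : IsCyclic R := by
      obtain ⟨a, ha⟩ := exists_prime_orderOf_dvd_card' 2 (G := R) (by rw [hR]; norm_num)
      obtain ⟨b, hb⟩ := exists_prime_orderOf_dvd_card' 3 (G := R) (by rw [hR]; norm_num)
      refine isCyclic_of_orderOf_eq_card (a * b) ?_
      rw [Commute.orderOf_mul_eq_mul_orderOf_of_coprime (hcomm a b) (by rw [ha, hb]; norm_num),
        ha, hb, hR]
    have haut : Nat.card (MulAut R) = 2 := by rw [IsCyclic.card_mulAut, hR]; decide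
    rcases hmapC with h | h
    · rw [Subgroup.map_eq_bot_iff, QuotientGroup.ker_mk'] at h
      have hCR : C = R := le_antisymm h hRC
      have h2 : Nat.card α.range ≤ 2 := haut ▸ Subgroup.card_le_card_group _
      rw [← hrange] at h2
      rw [show Nat.card (G ⧸ C) = Nat.card (G ⧸ R) from by rw [hCR], hq] at h2
      omega
    · have hC' : C = ⊤ := by
        rw [← Subgroup.comap_map_eq_self (f := QuotientGroup.mk' R) (H := C) (by
          rw [QuotientGroup.ker_mk']; exact hRC), h, Subgroup.comap_top]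
      have hcent : R ≤ Subgroup.center G := fun r hr => Subgroup.mem_center_iff.2 fun g => by
        have hg : g ∈ C := hC' ▸ Subgroup.mem_top g
        exact (Subgroup.mem_centralizer_iff.1 hg r hr).symm
      obtain ⟨-, -, -, d, ⟨χ, rfl⟩, h10⟩ := h25
      have h1 := sq_le_central_index χ hcent
      rw [Subgroup.index, hq] at h1
      have h2 : 10 ≤ charDegree (χ : G → ℂ) := Nat.le_of_dvd χ.2.charDegree_pos h10
      nlinarith
  · -- non-abelian, hence a direct factor
    have hCR : C ⊓ R = ⊥ := by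
      have hZ : Subgroup.center R = ⊥ := by
        by_contra hne
        apply hcomm
        have hcyc : IsCyclic (R ⧸ Subgroup.center R) := by
          have h1 := Subgroup.card_eq_card_quotient_mul_card_subgroup (Subgroup.center R)
          rw [hR] at h1
          have h2 : 1 < Nat.card (Subgroup.center R) := Subgroup.one_lt_card_iff_ne_bot _ |>.2 hne
          have h3 : Nat.card (R ⧸ Subgroup.center R) ∣ 6 := Dvd.intro _ h1.symm
          have h4 : Nat.card (R ⧸ Subgroup.center R) ≤ 3 := by nlinarith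
          have h5 : 0 < Nat.card (R ⧸ Subgroup.center R) := Nat.card_pos
          interval_cases hc : Nat.card (R ⧸ Subgroup.center R)
          · haveI := (Nat.card_eq_one_iff_unique.1 hc).1
            exact isCyclic_of_subsingleton
          · haveI := Fact.mk Nat.prime_two; exact isCyclic_of_prime_card hc
          · haveI := Fact.mk Nat.prime_three; exact isCyclic_of_prime_card hc
        exact commutative_of_cyclic_center_quotient (QuotientGroup.mk' (Subgroup.center R))
          (le_of_eq (QuotientGroup.ker_mk' _))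
      rw [eq_bot_iff]
      rintro g ⟨hgC, hgR⟩
      have hmem : (⟨g, hgR⟩ : R) ∈ Subgroup.center R := Subgroup.mem_center_iff.2 fun r =>
        Subtype.ext (Subgroup.mem_centralizer_iff.1 hgC r r.2)
      rw [hZ, Subgroup.mem_bot] at hmem
      exact congrArg Subtype.val hmem
    have hCne : C ≠ ⊥ := fun h => by
      have hsmall : Nat.card α.range ≤ 120 := by
        refine (Subgroup.card_le_card_group _).trans ?_
        have hinj : Function.Injective (fun σ : MulAut R =>
            Equiv.Perm.subtypePerm (p := fun r : R => r ≠ 1) σ.toEquiv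
              (fun r => by simp)) := by
          intro σ τ h
          refine MulEquiv.ext fun r => ?_
          by_cases hr : r = 1
          · rw [hr, map_one, map_one]
          · exact congrArg Subtype.val (Equiv.congr_fun h ⟨r, hr⟩)
        refine (Nat.card_le_card_of_injective _ hinj).trans ?_
        rw [Nat.card_perm, Nat.card_eq_fintype_card, Fintype.card_subtype_compl,
          Fintype.card_subtype_eq, ← Nat.card_eq_fintype_card, hR]
        decide
      have h1 : Nat.card (G ⧸ C) = 360 := by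
        have h2 := Subgroup.card_eq_card_quotient_mul_card_subgroup C
        rw [hG] at h2
        rw [show Nat.card C = 1 by rw [h]; exact Subgroup.card_bot, mul_one] at h2
        exact h2.symm
      rw [hrange] at h1
      omega
    set f : C →* G ⧸ R := (QuotientGroup.mk' R).comp C.subtype with hf
    have hfinj : Function.Injective f := by
      refine (injective_iff_map_eq_one f).2 fun c hc => Subtype.ext ?_
      have hmem : (c : G) ∈ C ⊓ R := ⟨c.2, (QuotientGroup.eq_one_iff _).1 hc⟩
      rw [hCR, Subgroup.mem_bot] at hmem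
      exact hmem
    have hfsurj : Function.Surjective f := by
      rcases hmapC with h | h
      · exfalso
        rw [Subgroup.map_eq_bot_iff, QuotientGroup.ker_mk'] at h
        exact hCne (by rw [← hCR, inf_eq_left.2 h])
      · intro y
        obtain ⟨c, hc, hcy⟩ := (h ▸ Subgroup.mem_top y : y ∈ C.map (QuotientGroup.mk' R))
        exact ⟨⟨c, hc⟩, hcy⟩
    set e : C ≃* G ⧸ R := MulEquiv.ofBijective f ⟨hfinj, hfsurj⟩ with he
    haveI : Nontrivial C := Subgroup.nontrivial_iff_ne_bot C |>.2 hCne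
    haveI : IsSimpleGroup C := e.isSimpleGroup
    have hCc : Nat.card C = 60 := by rw [Nat.card_congr e.toEquiv, hq]
    have hprod : Function.Bijective (fun p : C × R => (p.1 : G) * p.2) := by
      refine (Nat.bijective_iff_injective_and_card _).2 ⟨?_, by rw [Nat.card_prod, hCc, hR, hG]⟩
      rintro ⟨c, r⟩ ⟨c', r'⟩ h
      have h1 : (c' : G)⁻¹ * c = r' * (r : G)⁻¹ := by
        rw [eq_mul_inv_iff_mul_eq, mul_assoc, show (c : G) * r = c' * r' from h, inv_mul_cancel_left]
      have h2 : (c' : G)⁻¹ * c ∈ C ⊓ R :=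
        ⟨C.mul_mem (C.inv_mem c'.2) c.2, h1 ▸ R.mul_mem r'.2 (R.inv_mem r.2)⟩
      rw [hCR, Subgroup.mem_bot] at h2
      obtain rfl : c = c' := Subtype.ext (inv_mul_eq_one.1 h2).symm
      exact Prod.ext rfl (Subtype.ext (mul_left_cancel (show (c : G) * r = c * r' from h)))
    set E : C × R ≃* G := MulEquiv.ofBijective
      ({ toFun := fun p => (p.1 : G) * p.2
         map_one' := by simp
         map_mul' := fun p q => by
           have hcm := Subgroup.mem_centralizer_iff.1 q.1.2 _ p.2.2
           show ((p.1 * q.1 : C) : G) * ((p.2 * q.2 : R) : G) = _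
           rw [Subgroup.coe_mul, Subgroup.coe_mul,
             show (p.1 : G) * q.1 * (p.2 * q.2) = p.1 * (q.1 * p.2) * q.2 by group, ← hcm]
           group } : C × R →* G) hprod with hE
    haveI := Fintype.ofFinite C
    obtain ⟨-, d, ⟨θ, rfl⟩, h3⟩ :=
      (simple_data (S := C) (n := 60) (by simp [orders]) hCc).1 3 Nat.prime_three (by norm_num)
    obtain ⟨ψ, hψ⟩ : ∃ ψ : IrrCharacter R, charDegree (ψ : R → ℂ) = 2 := by
      by_contra hno
      push Not at hno
      refine hcomm (Char.comm_iff_all_linear.2 ?_)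
      rintro ⟨χ, hχ⟩
      have h1 := Char.charDegree_dvd_card hχ
      have h2 : charDegree χ ^ 2 ≤ 6 := by
        rw [← hR, ← sum_sq_charDegree]
        exact Finset.single_le_sum (f := fun χ : IrrCharacter R => charDegree (χ : R → ℂ) ^ 2)
          (fun _ _ => Nat.zero_le _) (Finset.mem_univ ⟨χ, hχ⟩)
      have h3 : charDegree χ ≤ 2 := by nlinarith
      have h4 := hχ.charDegree_pos
      have h5 := hno ⟨χ, hχ⟩
      show χ 1 = 1
      rw [hχ.apply_one_eq_charDegree, show charDegree χ = 1 by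
        simp only at h5; omega, Nat.cast_one]
    obtain ⟨χ, hχ⟩ := exists_mul_degree E θ ψ
    exact h23 (adj_of_dvd Nat.prime_two Nat.prime_three (by norm_num)
      ⟨χ, by rw [hχ, hψ, mul_comm _ 2]; exact Nat.mul_dvd_mul_left 2 h3⟩)

end Cfsg.Lib.Small.Gap
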